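import Groth.Agent.FlatClosed.Basic
import Groth.Agent.FlatPure.Model
import Groth.Agent.DevExist.LiftNhd
import Mathlib

/-! Comparing base changes of one model to two rings. -/

set_option autoImplicit false
set_option backward.isDefEq.respectTransparency false
set_option backward.isDefEq.respectTransparency.types false
attribute [-instance] CategoryTheory.catToReflQuiver
set_option linter.style.haveILetI false

universe u

open TensorProduct

namespace Groth.Agent.FlatStage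

/-- Ring maps out of a pushout agree when they agree on both factors. -/
theorem ringHom_ext {C C₁ B₀ B₁ X : Type u} [CommRing C] [CommRing C₁] [CommRing B₀] [CommRing B₁] [CommRing X]
    [Algebra C C₁] [Algebra C B₀] [Algebra C B₁] [Algebra C₁ B₁] [Algebra B₀ B₁] [IsScalarTower C C₁ B₁]
    [IsScalarTower C B₀ B₁] [Algebra.IsPushout C C₁ B₀ B₁] (f g : B₁ →+* X)
    (h₁ : ∀ a : C₁, f (algebraMap C₁ B₁ a) = g (algebraMap C₁ B₁ a))
    (h₂ : ∀ b : B₀, f (algebraMap B₀ B₁ b) = g (algebraMap B₀ B₁ b)) : f = g := by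
  ext z
  induction z using (Algebra.IsPushout.out (R := C) (S := C₁) (R' := B₀) (S' := B₁)).inductionOn with
  | zero => rw [map_zero, map_zero]
  | tmul b => exact h₂ b
  | smul a w hw => rw [Algebra.smul_def, map_mul, map_mul, h₁, hw]
  | add a b ha hb => rw [map_add, map_add, ha, hb]

set_option maxHeartbeats 800000 in
/-- The base change to a larger ring is the base change of the base change to a smaller one. -/
theorem rebase {C C₁ C₂ B₀ B₁ B₂ N₀ N₁ N₂ : Type u} [CommRing C] [CommRing C₁] [CommRing C₂] [CommRing B₀]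
    [CommRing B₁] [CommRing B₂] [Algebra C C₁] [Algebra C C₂] [Algebra C₁ C₂] [IsScalarTower C C₁ C₂]
    [Algebra C B₀] [Algebra C₁ B₁] [Algebra B₀ B₁] [Algebra C B₁] [IsScalarTower C C₁ B₁] [IsScalarTower C B₀ B₁]
    [Algebra.IsPushout C C₁ B₀ B₁]
    [Algebra C₂ B₂] [Algebra B₀ B₂] [Algebra C B₂] [IsScalarTower C C₂ B₂] [IsScalarTower C B₀ B₂]
    [Algebra.IsPushout C C₂ B₀ B₂] [Algebra C₁ B₂] [IsScalarTower C₁ C₂ B₂]
    [AddCommGroup N₀] [Module B₀ N₀] [AddCommGroup N₁] [Module B₁ N₁] [Module B₀ N₁] [IsScalarTower B₀ B₁ N₁]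
    (l₁ : N₀ →ₗ[B₀] N₁) (hl₁ : IsBaseChange B₁ l₁)
    [AddCommGroup N₂] [Module B₂ N₂] [Module B₀ N₂] [IsScalarTower B₀ B₂ N₂]
    (l₂ : N₀ →ₗ[B₀] N₂) (hl₂ : IsBaseChange B₂ l₂) :
    ∃ (_ : Algebra B₁ B₂) (_ : IsScalarTower C₁ B₁ B₂) (_ : IsScalarTower B₀ B₁ B₂)
      (_ : Algebra.IsPushout C₁ C₂ B₁ B₂) (_ : Algebra.IsPushout C₁ B₁ C₂ B₂)
      (_ : Module B₁ N₂) (_ : IsScalarTower B₁ B₂ N₂) (f : N₁ →ₗ[B₁] N₂), IsBaseChange B₂ f := by
  haveI : IsScalarTower C C₁ B₂ := IsScalarTower.of_algebraMap_eq fun a => by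
    rw [IsScalarTower.algebraMap_apply C₁ C₂ B₂, ← IsScalarTower.algebraMap_apply C C₁ C₂,
      ← IsScalarTower.algebraMap_apply C C₂ B₂]
  let ψ : B₁ →ₐ[C] B₂ := Algebra.pushoutDesc B₁ (IsScalarTower.toAlgHom C C₁ B₂) (IsScalarTower.toAlgHom C B₀ B₂)
    fun _ _ => mul_comm _ _
  letI : Algebra B₁ B₂ := ψ.toRingHom.toAlgebra
  haveI t1 : IsScalarTower C₁ B₁ B₂ := IsScalarTower.of_algebraMap_eq fun a =>
    (Algebra.pushoutDesc_left B₁ (IsScalarTower.toAlgHom C C₁ B₂) (IsScalarTower.toAlgHom C B₀ B₂)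
      (fun _ _ => mul_comm _ _) a).symm
  haveI t2 : IsScalarTower B₀ B₁ B₂ := IsScalarTower.of_algebraMap_eq fun b =>
    (Algebra.pushoutDesc_right B₁ (IsScalarTower.toAlgHom C C₁ B₂) (IsScalarTower.toAlgHom C B₀ B₂)
      (fun _ _ => mul_comm _ _) b).symm
  haveI : IsScalarTower C B₁ B₂ := IsScalarTower.of_algebraMap_eq fun a => (ψ.commutes a).symm
  haveI hpc : Algebra.IsPushout C₁ B₁ C₂ B₂ := by
    have h1 : Algebra.IsPushout C C₂ B₀ B₂ := inferInstance
    haveI : Algebra.IsPushout C B₀ C₁ B₁ := Algebra.IsPushout.symm inferInstance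
    haveI : Algebra.IsPushout C B₀ C₂ B₂ := Algebra.IsPushout.symm inferInstance
    exact (Algebra.IsPushout.comp_iff (R := C) (S := C₁) (R' := B₀) (S' := B₁) (T := C₂) (T' := B₂)).1 h1 |>.symm
  letI : Module B₁ N₂ := Module.compHom N₂ (algebraMap B₁ B₂)
  haveI : IsScalarTower B₁ B₂ N₂ := IsScalarTower.of_algebraMap_smul fun _ _ => rfl
  haveI : IsScalarTower B₀ B₁ N₂ := IsScalarTower.to₁₂₄ B₀ B₁ B₂ N₂
  let f : N₁ →ₗ[B₁] N₂ := hl₁.lift l₂
  refine ⟨inferInstance, inferInstance, inferInstance, Algebra.IsPushout.symm hpc, hpc, inferInstance, inferInstance,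
    f, IsBaseChange.of_comp hl₁ ?_⟩
  rw [show ((f.restrictScalars B₀) ∘ₗ l₁) = l₂ from LinearMap.ext fun n => hl₁.lift_eq l₂ n]
  exact hl₂

end Groth.Agent.FlatStage
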