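import Mathlib

/-! Elements and relations of a base change come from finitely generated subalgebras. -/

set_option autoImplicit false
set_option linter.style.haveILetI false

universe u

noncomputable section

open TensorProduct

namespace Groth.Agent.FlatStage

variable {C A : Type u} [CommRing C] [CommRing A] [Algebra C A] {R : Type u} [CommRing R] [Algebra C R]

/-- The map on base changes induced by an inclusion of subalgebras. -/
def stageMap {C₁ C₂ : Subalgebra C A} (h : C₁ ≤ C₂) : C₁ ⊗[C] R →ₐ[C] C₂ ⊗[C] R :=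
  Algebra.TensorProduct.map (Subalgebra.inclusion h) (AlgHom.id C R)

/-- The map from the base change to a subalgebra to the full base change. -/
def limMap (C₁ : Subalgebra C A) : C₁ ⊗[C] R →ₐ[C] A ⊗[C] R :=
  Algebra.TensorProduct.map C₁.val (AlgHom.id C R)

theorem limMap_stageMap {C₁ C₂ : Subalgebra C A} (h : C₁ ≤ C₂) (u : C₁ ⊗[C] R) :
    limMap C₂ (stageMap h u) = limMap C₁ u := by
  induction u using TensorProduct.induction_on with
  | zero => simp
  | tmul a b => rfl
  | add a b ha hb => simp only [map_add, ha, hb]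

/-- Every element of a base change comes from a finitely generated subalgebra. -/
theorem exists_lift_elt (x : A ⊗[C] R) : ∃ C₁ : Subalgebra C A, C₁.FG ∧ ∃ u, limMap C₁ u = x := by
  obtain ⟨C₁, hC₁, u, hu⟩ := TensorProduct.Algebra.exists_of_fg x
  refine ⟨C₁, hC₁, u, ?_⟩
  rw [← hu]
  clear hu
  induction u using TensorProduct.induction_on with
  | zero => simp
  | tmul a b => rfl
  | add a b ha hb => simp only [map_add, ha, hb]

/-- An inclusion of `f g ^ n` in an extended ideal is seen at a finitely generated subalgebra. -/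
theorem exists_stage_mem (J : Ideal R) (g : R) (n : ℕ) (f : A ⊗[C] R)
    (h : f * (1 ⊗ₜ g) ^ n ∈ J.map (Algebra.TensorProduct.includeRight : R →ₐ[C] A ⊗[C] R)) :
    ∃ C₁ : Subalgebra C A, C₁.FG ∧ ∃ u, limMap C₁ u = f ∧
      u * (1 ⊗ₜ g) ^ n ∈ J.map (Algebra.TensorProduct.includeRight : R →ₐ[C] C₁ ⊗[C] R) := by
  obtain ⟨C₀, hC₀, u, rfl⟩ := exists_lift_elt f
  let π : R →ₐ[C] R ⧸ J := Ideal.Quotient.mkₐ C J
  have hπ : Function.Surjective π := Ideal.Quotient.mk_surjective
  have hker : RingHom.ker π = J := Ideal.mk_ker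
  let πA := Algebra.TensorProduct.map (AlgHom.id C A) π
  let w : C₀ ⊗[C] R := u * (1 ⊗ₜ g) ^ n
  have hnat : ∀ (D : Subalgebra C A) (z : D ⊗[C] R),
      D.val.toLinearMap.rTensor (R ⧸ J) (Algebra.TensorProduct.map (AlgHom.id C D) π z) = πA (limMap D z) := by
    intro D z
    induction z using TensorProduct.induction_on with
    | zero => simp
    | tmul a b => rfl
    | add a b ha hb => simp only [map_add, ha, hb]
  have hw0 : πA (limMap C₀ w) = 0 := by
    rw [← RingHom.mem_ker, Algebra.TensorProduct.lTensor_ker π hπ, hker, map_mul, map_pow]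
    exact h
  obtain ⟨C₂, hle, hC₂, hzero⟩ := TensorProduct.Algebra.eq_of_fg_of_subtype_eq hC₀
    (t := Algebra.TensorProduct.map (AlgHom.id C C₀) π w) (t' := 0) (by rw [hnat, hw0, map_zero])
  refine ⟨C₂, hC₂, stageMap hle u, limMap_stageMap hle u, ?_⟩
  have hnat' : ∀ z : C₀ ⊗[C] R,
      (Subalgebra.inclusion hle).toLinearMap.rTensor (R ⧸ J) (Algebra.TensorProduct.map (AlgHom.id C C₀) π z) =
        Algebra.TensorProduct.map (AlgHom.id C C₂) π (stageMap hle z) := by
    intro z
    induction z using TensorProduct.induction_on with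
    | zero => simp
    | tmul a b => rfl
    | add a b ha hb => simp only [map_add, ha, hb]
  rw [map_zero, hnat'] at hzero
  have h1 : stageMap hle w ∈ RingHom.ker (Algebra.TensorProduct.map (AlgHom.id C C₂) π) := hzero
  rw [Algebra.TensorProduct.lTensor_ker π hπ, hker] at h1
  simp only [w, map_mul, map_pow] at h1
  exact h1

set_option maxHeartbeats 800000 in
/-- Finitely many conditions holding at the generalisations of a prime hold near it at a stage. -/
theorem exists_stage_good (L : List (R × Ideal R)) (p' : Ideal (A ⊗[C] R)) [p'.IsPrime]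
    (hL : ∀ x ∈ L, ∀ t : Ideal (A ⊗[C] R), t.IsPrime → t ≤ p' →
      x.2 ≤ t.comap (Algebra.TensorProduct.includeRight : R →ₐ[C] A ⊗[C] R) →
      x.1 ∈ t.comap (Algebra.TensorProduct.includeRight : R →ₐ[C] A ⊗[C] R)) :
    ∃ C₁ : Subalgebra C A, C₁.FG ∧ ∃ u : C₁ ⊗[C] R, limMap C₁ u ∉ p' ∧
      ∀ x ∈ L, ∀ t : Ideal (C₁ ⊗[C] R), t.IsPrime → u ∉ t →
        x.2 ≤ t.comap (Algebra.TensorProduct.includeRight : R →ₐ[C] C₁ ⊗[C] R) →
        x.1 ∈ t.comap (Algebra.TensorProduct.includeRight : R →ₐ[C] C₁ ⊗[C] R) := by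
  induction L with
  | nil =>
    refine ⟨⊥, Subalgebra.fg_bot, 1, fun h => ‹p'.IsPrime›.ne_top ((Ideal.eq_top_iff_one _).2 ?_), by simp⟩
    rwa [map_one] at h
  | cons x L ih =>
    obtain ⟨C₁, hC₁, u, hu, hgood⟩ := ih fun y hy => hL y (List.mem_cons_of_mem _ hy)
    obtain ⟨g, J⟩ := x
    let ι : R →ₐ[C] A ⊗[C] R := Algebra.TensorProduct.includeRight
    let Rp := Localization.AtPrime p'
    have hrad : algebraMap (A ⊗[C] R) Rp (ι g) ∈ ((J.map ι).map (algebraMap (A ⊗[C] R) Rp)).radical := by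
      rw [Ideal.radical_eq_sInf, Ideal.mem_sInf]
      intro Q hQ
      haveI := hQ.2
      refine hL (g, J) List.mem_cons_self (Q.comap (algebraMap _ Rp)) (Ideal.IsPrime.comap _) (fun y hy => ?_)
        (Ideal.map_le_iff_le_comap.1 (Ideal.map_le_iff_le_comap.1 hQ.1))
      by_contra hyp
      exact hQ.2.ne_top (Ideal.eq_top_of_isUnit_mem _ hy (IsLocalization.map_units Rp (⟨y, hyp⟩ : p'.primeCompl)))
    obtain ⟨n, hn⟩ := hrad
    rw [← map_pow, IsLocalization.algebraMap_mem_map_algebraMap_iff p'.primeCompl] at hn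
    obtain ⟨f, hf, hfn⟩ := hn
    obtain ⟨C₂, hC₂, v, hv, hvn⟩ := exists_stage_mem J g n f (by simpa [ι] using hfn)
    refine ⟨C₁ ⊔ C₂, Subalgebra.FG.sup hC₁ hC₂, (stageMap (R := R) (le_sup_left : C₁ ≤ C₁ ⊔ C₂)) u * (stageMap (R := R) (le_sup_right : C₂ ≤ C₁ ⊔ C₂)) v, ?_, ?_⟩
    · rw [map_mul, limMap_stageMap, limMap_stageMap]
      exact fun h => (‹p'.IsPrime›.mem_or_mem h).elim hu (hv ▸ hf)
    · intro y hy t ht huv hle
      have h1 : (stageMap (R := R) (le_sup_left : C₁ ≤ C₁ ⊔ C₂)) u ∉ t := fun h => huv (t.mul_mem_right _ h)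
      have h2 : (stageMap (R := R) (le_sup_right : C₂ ≤ C₁ ⊔ C₂)) v ∉ t := fun h => huv (t.mul_mem_left _ h)
      rcases List.mem_cons.1 hy with rfl | hy
      · have h3 : Ideal.map (Algebra.TensorProduct.includeRight : R →ₐ[C] C₂ ⊗[C] R) J ≤
            t.comap (stageMap (R := R) (le_sup_right : C₂ ≤ C₁ ⊔ C₂)) := by
          rw [Ideal.map_le_iff_le_comap]
          exact fun z hz => hle hz
        have h4 := h3 hvn
        rw [Ideal.mem_comap, map_mul, map_pow] at h4
        exact ht.mem_of_pow_mem n ((ht.mem_or_mem h4).resolve_left h2)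
      · exact hgood y hy (t.comap (stageMap (R := R) (le_sup_left : C₁ ≤ C₁ ⊔ C₂))) (Ideal.IsPrime.comap _) h1
          (fun z hz => hle hz)

end Groth.Agent.FlatStage
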