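import Groth.Agent.FlatStage.Main
import Groth.Agent.RGLib.FPModuleModel

/-! Descending a pure flat finitely presented module along a directed colimit. -/

set_option autoImplicit false
set_option backward.isDefEq.respectTransparency false
set_option backward.isDefEq.respectTransparency.types false
attribute [-instance] CategoryTheory.catToReflQuiver
set_option linter.style.haveILetI false

universe u

open TensorProduct IsLocalRing

namespace Groth.Agent.FlatStage

open FlatPure

set_option maxHeartbeats 1600000 in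
/-- Universal purity is stable under base change. -/
theorem isUnivPureAlong_baseChange {A B A₁ B₁ N N₁ : Type u} [CommRing A] [CommRing B] [Algebra A B] [CommRing A₁]
    [Algebra A A₁] [CommRing B₁] [Algebra A₁ B₁] [Algebra B B₁] [Algebra A B₁] [IsScalarTower A B B₁]
    [IsScalarTower A A₁ B₁] [Algebra.IsPushout A B A₁ B₁]
    [AddCommGroup N] [Module B N] [AddCommGroup N₁] [Module B₁ N₁] [Module B N₁] [IsScalarTower B B₁ N₁]
    (g : N →ₗ[B] N₁) (hg : IsBaseChange B₁ g) (p : Ideal A) [p.IsPrime] (p₁ : Ideal A₁) [p₁.IsPrime]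
    [p₁.LiesOver p] (h : FlatCA.IsUnivPureAlong A B N p) : FlatCA.IsUnivPureAlong A₁ B₁ N₁ p₁ := by
  intro A' B' N' _ _ _ _ _ _ _ _ _ _ _ _ _ _ f t' t _ _ P _ himp
  obtain ⟨hpo, hf, hle, ht, hP, hass, hmiss⟩ := himp
  haveI := hpo
  haveI := ht
  letI : Algebra A A' := ((algebraMap A₁ A').comp (algebraMap A A₁)).toAlgebra
  haveI : IsScalarTower A A₁ A' := IsScalarTower.of_algebraMap_eq' rfl
  letI : Algebra B B' := ((algebraMap B₁ B').comp (algebraMap B B₁)).toAlgebra
  haveI : IsScalarTower B B₁ B' := IsScalarTower.of_algebraMap_eq' rfl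
  letI : Algebra A B' := ((algebraMap B B').comp (algebraMap A B)).toAlgebra
  haveI : IsScalarTower A B B' := IsScalarTower.of_algebraMap_eq' rfl
  haveI : IsScalarTower A A' B' := IsScalarTower.of_algebraMap_eq fun a => by
    show algebraMap B₁ B' (algebraMap B B₁ (algebraMap A B a)) = algebraMap A' B' (algebraMap A₁ A' (algebraMap A A₁ a))
    rw [← IsScalarTower.algebraMap_apply A B B₁, IsScalarTower.algebraMap_apply A A₁ B₁,
      ← IsScalarTower.algebraMap_apply A₁ B₁ B', ← IsScalarTower.algebraMap_apply A₁ A' B']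
  haveI : Algebra.IsPushout A B A' B' := by
    haveI : Algebra.IsPushout A A₁ B B₁ := Algebra.IsPushout.symm inferInstance
    haveI : Algebra.IsPushout A₁ A' B₁ B' := Algebra.IsPushout.symm inferInstance
    exact Algebra.IsPushout.symm (DevExist.isPushout_trans A A₁ A' B B₁ B')
  letI : Module B N' := Module.compHom N' (algebraMap B B')
  haveI : IsScalarTower B B' N' := IsScalarTower.of_algebraMap_smul fun _ _ => rfl
  haveI : IsScalarTower B B₁ N' := IsScalarTower.to₁₂₄ B B₁ B' N'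
  haveI : t.LiesOver p := Ideal.LiesOver.trans t p₁ p
  exact h A' B' N' ((f.restrictScalars B).comp g) t' t P
    ⟨inferInstance, hg.comp hf, hle, inferInstance, hP, hass, hmiss⟩

set_option maxHeartbeats 1600000 in
/-- The data at a stage receiving a model which is flat and universally pure along the fibre. -/
theorem finish {C₂ Gj A B₂ B N₂ N : Type u} [CommRing C₂] [CommRing Gj] [CommRing A] [Algebra C₂ Gj] [Algebra Gj A]
    [Algebra C₂ A] [IsScalarTower C₂ Gj A] [CommRing B₂] [Algebra C₂ B₂] [Algebra.FinitePresentation C₂ B₂]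
    [CommRing B] [Algebra A B] [Algebra B₂ B] [Algebra C₂ B] [IsScalarTower C₂ A B] [IsScalarTower C₂ B₂ B]
    [Algebra.IsPushout C₂ A B₂ B]
    [AddCommGroup N₂] [Module B₂ N₂] [Module C₂ N₂] [IsScalarTower C₂ B₂ N₂] [Module.FinitePresentation B₂ N₂]
    [AddCommGroup N] [Module B N] [Module B₂ N] [IsScalarTower B₂ B N]
    (l : N₂ →ₗ[B₂] N) (hl : IsBaseChange B l) (p : Ideal A) [p.IsPrime]
    (hflat : ∀ (q : Ideal B₂) [q.IsPrime], q.LiesOver (p.comap (algebraMap C₂ A)) → FlatCA.FlatAt C₂ q N₂)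
    (hpure : FlatCA.IsUnivPureAlong C₂ B₂ N₂ (p.comap (algebraMap C₂ A))) :
    ∃ (Bi Ni : Type u) (_ : CommRing Bi) (_ : Algebra Gj Bi) (_ : Algebra Bi B) (_ : Algebra Gj B)
      (_ : IsScalarTower Gj A B) (_ : IsScalarTower Gj Bi B)
      (_ : AddCommGroup Ni) (_ : Module Bi Ni) (_ : Module Gj Ni) (_ : IsScalarTower Gj Bi Ni)
      (_ : Module Bi N) (_ : IsScalarTower Bi B N) (f : Ni →ₗ[Bi] N),
      Algebra.FinitePresentation Gj Bi ∧ Algebra.IsPushout Gj Bi A B ∧ Module.FinitePresentation Bi Ni ∧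
      IsBaseChange B f ∧ FlatCA.IsPureAlong Gj Bi Ni (p.comap (algebraMap Gj A)) ∧
      ∀ (q : Ideal Bi) [q.IsPrime], q.LiesOver (p.comap (algebraMap Gj A)) → FlatCA.FlatAt Gj q Ni := by
  obtain ⟨Bj, Nj, _, _, _, _, _, _, _, _, _, _, _, _, lj, hp1, hp2, hlj⟩ := exists_base_model C₂ Gj B₂ N₂
  haveI := hp1; haveI := hp2
  letI : Algebra Gj B := ((algebraMap A B).comp (algebraMap Gj A)).toAlgebra
  haveI : IsScalarTower Gj A B := IsScalarTower.of_algebraMap_eq' rfl
  obtain ⟨_, _, _, hpo, hpo', _, _, f, hf⟩ := rebase (C := C₂) (C₁ := Gj) (C₂ := A) lj hlj l hl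
  haveI : (p.comap (algebraMap Gj A)).LiesOver (p.comap (algebraMap C₂ A)) := ⟨by
    show _ = (p.comap (algebraMap Gj A)).comap (algebraMap C₂ Gj)
    rw [Ideal.comap_comap, ← IsScalarTower.algebraMap_eq]⟩
  refine ⟨Bj, Nj, inferInstance, inferInstance, inferInstance, inferInstance, inferInstance, inferInstance,
    inferInstance, inferInstance, inferInstance, inferInstance, inferInstance, inferInstance, f,
    Algebra.FinitePresentation.equiv (Algebra.IsPushout.equiv C₂ Gj B₂ Bj), hpo',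
    Module.FinitePresentation.of_equiv hlj.equiv, hf, ?_, fun q _ hq => ?_⟩
  · intro A' B' N' _ _ _ _ _ _ _ _ _ _ _ _ _ _ f' t' t _ _ P _ _
    exact isUnivPureAlong_baseChange (A := C₂) (A₁ := Gj) lj hlj (p.comap (algebraMap C₂ A))
      (p.comap (algebraMap Gj A)) hpure A' B' N' f' t' t P
  · haveI := hq
    refine flatAt_baseChange lj hlj q (hflat _ ⟨?_⟩)
    show _ = (q.comap (algebraMap B₂ Bj)).comap (algebraMap C₂ B₂)
    rw [Ideal.comap_comap, ← IsScalarTower.algebraMap_eq, IsScalarTower.algebraMap_eq C₂ Gj Bj, ← Ideal.comap_comap,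
      show q.comap (algebraMap Gj Bj) = p.comap (algebraMap Gj A) from hq.over.symm, Ideal.comap_comap,
      ← IsScalarTower.algebraMap_eq]

set_option maxHeartbeats 1600000 in
/-- A finitely generated ring of definition over which the module is flat and universally pure along the fibre. -/
theorem exists_good_model {A B : Type u} [CommRing A] [CommRing B] [Algebra A B] [Algebra.FinitePresentation A B]
    (N : Type u) [AddCommGroup N] [Module B N] [Module A N] [IsScalarTower A B N] [Module.FinitePresentation B N]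
    (p : Ideal A) [p.IsPrime] (hpure : FlatCA.IsPureAlong A B N p)
    (hflat : ∀ (q : Ideal B) [q.IsPrime], q.LiesOver p → FlatCA.FlatAt A q N) :
    ∃ (C : Type u) (_ : CommRing C) (_ : Algebra C A) (_ : Algebra.FiniteType ℤ C)
      (B₂ : Type u) (_ : CommRing B₂) (_ : Algebra C B₂) (_ : Algebra B₂ B) (_ : Algebra C B)
      (_ : IsScalarTower C A B) (_ : IsScalarTower C B₂ B) (_ : Algebra.IsPushout C A B₂ B)
      (_ : Algebra.FinitePresentation C B₂)
      (N₂ : Type u) (_ : AddCommGroup N₂) (_ : Module B₂ N₂) (_ : Module C N₂) (_ : IsScalarTower C B₂ N₂)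
      (_ : Module.FinitePresentation B₂ N₂) (_ : Module B₂ N) (_ : IsScalarTower B₂ B N) (l : N₂ →ₗ[B₂] N),
      IsBaseChange B l ∧
      (∀ (q : Ideal B₂) [q.IsPrime], q.LiesOver (p.comap (algebraMap C A)) → FlatCA.FlatAt C q N₂) ∧
      FlatCA.IsUnivPureAlong C B₂ N₂ (p.comap (algebraMap C A)) := by
  obtain ⟨C, _, _, _, _, B₀, _, _, _, _, M₀, _, _, hC, hB₀, hpo, hM₀, ⟨e⟩⟩ := RGLib.exists_fp_module_model A B N
  haveI := hC; haveI := hB₀; haveI := hpo; haveI := hM₀
  haveI : IsNoetherianRing C := Algebra.FiniteType.isNoetherianRing ℤ C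
  letI : Module B₀ N := Module.compHom N (algebraMap B₀ B)
  haveI : IsScalarTower B₀ B N := IsScalarTower.of_algebraMap_smul fun _ _ => rfl
  let l₀ : M₀ →ₗ[B₀] N := (e.toLinearMap.restrictScalars B₀).comp (TensorProduct.mk B₀ B M₀ 1)
  have hl₀ : IsBaseChange B l₀ := IsBaseChange.of_equiv e fun _ => rfl
  obtain ⟨C₁, hC₁, hflat₁⟩ := exists_flat_stage_fibre (C := C) l₀ hl₀ p hflat
  haveI : Algebra.FiniteType C C₁ := (Subalgebra.fg_iff_finiteType C₁).1 hC₁
  haveI : IsNoetherianRing C₁ := Algebra.FiniteType.isNoetherianRing C C₁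
  haveI : Algebra.FiniteType ℤ C₁ := Algebra.FiniteType.trans (S := C) inferInstance inferInstance
  obtain ⟨B₁, N₁, _, _, _, _, _, _, _, _, _, _, _, _, l₁, hp1, hp2, hl₁⟩ := exists_base_model C C₁ B₀ M₀
  haveI := hp1; haveI := hp2
  haveI : Algebra.FinitePresentation C₁ B₁ := Algebra.FinitePresentation.equiv (Algebra.IsPushout.equiv C C₁ B₀ B₁)
  haveI : Module.FinitePresentation B₁ N₁ := Module.FinitePresentation.of_equiv hl₁.equiv
  obtain ⟨_, _, _, hpoB, hpoB', _, _, f, hf⟩ := rebase (C := C) (C₁ := C₁) (C₂ := A) l₁ hl₁ l₀ hl₀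
  haveI := hpoB; haveI := hpoB'
  have hflat₁' := hflat₁ B₁ N₁ l₁ hl₁
  obtain ⟨C₂, hC₂, hpure₂⟩ := exists_univPure_stage (C := C₁) f hf p hflat₁' hflat hpure
  haveI : Algebra.FiniteType C₁ C₂ := (Subalgebra.fg_iff_finiteType C₂).1 hC₂
  haveI : Algebra.FiniteType ℤ C₂ := Algebra.FiniteType.trans (S := C₁) inferInstance inferInstance
  obtain ⟨B₂, N₂, _, _, _, _, _, _, _, _, _, _, _, _, l₂, hq1, hq2, hl₂⟩ := exists_base_model C₁ C₂ B₁ N₁
  haveI := hq1; haveI := hq2
  haveI : Algebra.FinitePresentation C₂ B₂ :=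
    Algebra.FinitePresentation.equiv (A := C₂ ⊗[C₁] B₁) (Algebra.IsPushout.equiv C₁ C₂ B₁ B₂)
  haveI : Module.FinitePresentation B₂ N₂ := Module.FinitePresentation.of_equiv hl₂.equiv
  obtain ⟨_, _, _, hpo2, hpo2', _, _, f₂, hf₂⟩ := rebase (C := C₁) (C₁ := C₂) (C₂ := A) l₂ hl₂ f hf
  haveI := hpo2; haveI := hpo2'
  refine ⟨C₂, inferInstance, inferInstance, inferInstance, B₂, inferInstance, inferInstance, inferInstance,
    inferInstance, inferInstance, inferInstance, inferInstance, inferInstance, N₂, inferInstance, inferInstance,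
    inferInstance, inferInstance, inferInstance, inferInstance, inferInstance, f₂, hf₂, fun q _ hq => ?_,
    hpure₂ B₂ N₂ l₂ hl₂⟩
  haveI := hq
  refine flatAt_baseChange l₂ hl₂ q (hflat₁' _ ⟨?_⟩)
  show _ = (q.comap (algebraMap B₁ B₂)).comap (algebraMap C₁ B₁)
  rw [Ideal.comap_comap, ← IsScalarTower.algebraMap_eq, IsScalarTower.algebraMap_eq C₁ C₂ B₂, ← Ideal.comap_comap,
    show q.comap (algebraMap C₂ B₂) = p.comap (algebraMap C₂ A) from hq.over.symm, Ideal.comap_comap,
    ← IsScalarTower.algebraMap_eq]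

end Groth.Agent.FlatStage
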