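import Groth.Agent.FlatStage.FlatBC
import Groth.Agent.FlatStage.Algebra
import Groth.Agent.FlatStage.Rebase
import Groth.Agent.FlatHens.Transfer
import Groth.Agent.FlatSyz5.Colim
import Groth.Agent.FlatModel.Open
import Groth.Agent.FlatInj.Chain

/-! Flatness along a fibre descends to a finitely generated stage. -/

set_option autoImplicit false
set_option backward.isDefEq.respectTransparency false
set_option backward.isDefEq.respectTransparency.types false
attribute [-instance] CategoryTheory.catToReflQuiver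
set_option linter.style.haveILetI false

universe u

open TensorProduct

namespace Groth.Agent.FlatStage

/-- Flatness at the images of the points of `V` in the models over a stage. -/
def FlatStageOn (C : Type u) [CommRing C] {A : Type u} [CommRing A] [Algebra C A] (B₀ : Type u) [CommRing B₀]
    [Algebra C B₀] {B : Type u} [CommRing B] [Algebra A B] [Algebra B₀ B] (N₀ : Type u) [AddCommGroup N₀]
    [Module B₀ N₀] (C₁ : Subalgebra C A) (V : Set (PrimeSpectrum B)) : Prop :=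
  ∀ (B₁ N₁ : Type u) [CommRing B₁] [Algebra C₁ B₁] [Algebra B₀ B₁] [Algebra C B₁] [IsScalarTower C C₁ B₁]
    [IsScalarTower C B₀ B₁] [Algebra.IsPushout C C₁ B₀ B₁] [AddCommGroup N₁] [Module B₁ N₁] [Module B₀ N₁]
    [IsScalarTower B₀ B₁ N₁] [Module C₁ N₁] [IsScalarTower C₁ B₁ N₁] (l₁ : N₀ →ₗ[B₀] N₁),
    IsBaseChange B₁ l₁ → ∀ [Algebra B₁ B], (∀ b, algebraMap B₁ B (algebraMap B₀ B₁ b) = algebraMap B₀ B b) →
      (∀ c : C₁, algebraMap B₁ B (algebraMap C₁ B₁ c) = algebraMap A B c) →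
      ∀ Q ∈ V, FlatCA.FlatAt C₁ (Q.asIdeal.comap (algebraMap B₁ B)) N₁

variable {C A B₀ B N₀ N : Type u} [CommRing C] [CommRing A] [Algebra C A] [CommRing B₀] [Algebra C B₀]
  [CommRing B] [Algebra A B] [Algebra B₀ B] [Algebra C B] [IsScalarTower C A B] [IsScalarTower C B₀ B]
  [Algebra.IsPushout C A B₀ B] [AddCommGroup N₀] [Module B₀ N₀] [AddCommGroup N] [Module B N] [Module B₀ N]
  [IsScalarTower B₀ B N] [Module A N] [IsScalarTower A B N]

set_option maxHeartbeats 800000 in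
theorem flatStageOn_mono {C₁ C₂ : Subalgebra C A} (hle : C₁ ≤ C₂) {V : Set (PrimeSpectrum B)}
    (h : FlatStageOn C B₀ N₀ C₁ V) : FlatStageOn C B₀ N₀ C₂ V := by
  intro B₂ N₂ _ _ _ _ _ _ _ _ _ _ _ _ _ l₂ hl₂ _ hb hc Q hQ
  obtain ⟨B₁, N₁, _, _, _, _, _, _, _, _, _, _, _, _, l₁, hp1, hp2, hl₁⟩ := FlatPure.exists_base_model C C₁ B₀ N₀
  haveI := hp1
  letI : Algebra C₁ C₂ := (Subalgebra.inclusion hle).toRingHom.toAlgebra
  haveI : IsScalarTower C C₁ C₂ := IsScalarTower.of_algebraMap_eq (R := C) (S := C₁) (A := C₂) fun _ => Subtype.ext rfl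
  letI : Algebra C₁ B₂ := ((algebraMap C₂ B₂).comp (algebraMap C₁ C₂)).toAlgebra
  haveI : IsScalarTower C₁ C₂ B₂ := IsScalarTower.of_algebraMap_eq' rfl
  obtain ⟨_, _, _, hpo, hpo', _, _, f, hf⟩ := rebase l₁ hl₁ l₂ hl₂ (C := C) (C₁ := C₁) (C₂ := C₂)
  haveI := hpo; haveI := hpo'
  letI : Algebra B₁ B := ((algebraMap B₂ B).comp (algebraMap B₁ B₂)).toAlgebra
  have h1 := h B₁ N₁ l₁ hl₁ (fun b => by
      show algebraMap B₂ B (algebraMap B₁ B₂ (algebraMap B₀ B₁ b)) = _
      rw [← IsScalarTower.algebraMap_apply B₀ B₁ B₂, hb])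
    (fun c => by
      show algebraMap B₂ B (algebraMap B₁ B₂ (algebraMap C₁ B₁ c)) = _
      rw [← IsScalarTower.algebraMap_apply C₁ B₁ B₂, IsScalarTower.algebraMap_apply C₁ C₂ B₂, hc]
      rfl) Q hQ
  exact flatAt_baseChange f hf (Q.asIdeal.comap (algebraMap B₂ B)) h1

set_option maxHeartbeats 1600000 in
/-- Flatness of a base changed localisation from flatness at the points where the element is invertible. -/
theorem flat_away_baseChange {C₁ A' B₁ B' N₁ N' : Type u} [CommRing C₁] [CommRing A'] [Algebra C₁ A'] [CommRing B₁]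
    [Algebra C₁ B₁] [CommRing B'] [Algebra A' B'] [Algebra B₁ B'] [Algebra C₁ B'] [IsScalarTower C₁ A' B']
    [IsScalarTower C₁ B₁ B'] [Algebra.IsPushout C₁ A' B₁ B'] [AddCommGroup N₁] [Module B₁ N₁] [Module C₁ N₁]
    [IsScalarTower C₁ B₁ N₁] [AddCommGroup N'] [Module B' N'] [Module B₁ N'] [IsScalarTower B₁ B' N'] [Module A' N']
    [IsScalarTower A' B' N'] (f : N₁ →ₗ[B₁] N') (hf : IsBaseChange B' f) (u' : B₁)
    (hg : ∀ (P : Ideal B') [P.IsPrime], algebraMap B₁ B' u' ∉ P → FlatCA.FlatAt A' P N') :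
    Module.Flat A' (A' ⊗[C₁] LocalizedModule (Submonoid.powers u') N₁) := by
  haveI : Algebra.IsPushout C₁ B₁ A' B' := Algebra.IsPushout.symm inferInstance
  let T := Localization.Away u'
  let L := LocalizedModule (Submonoid.powers u') N₁
  obtain ⟨TA, LA, _, _, _, _, _, _, _, _, _, _, _, _, a, hq1, hq2, ha⟩ := FlatPure.exists_base_model C₁ A' T L
  haveI := hq1; haveI := hq2
  letI : Algebra B₁ TA := ((algebraMap T TA).comp (algebraMap B₁ T)).toAlgebra
  haveI : IsScalarTower B₁ T TA := IsScalarTower.of_algebraMap_eq' rfl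
  haveI : IsScalarTower C₁ B₁ TA := IsScalarTower.of_algebraMap_eq (R := C₁) (S := B₁) (A := TA) fun c => by
    rw [IsScalarTower.algebraMap_apply B₁ T TA, ← IsScalarTower.algebraMap_apply C₁ B₁ T,
      ← IsScalarTower.algebraMap_apply C₁ T TA]
  let ψ : B' →ₐ[C₁] TA := Algebra.pushoutDesc B' (IsScalarTower.toAlgHom C₁ A' TA) (IsScalarTower.toAlgHom C₁ B₁ TA)
    fun _ _ => mul_comm _ _
  letI : Algebra B' TA := ψ.toRingHom.toAlgebra
  haveI : IsScalarTower A' B' TA := IsScalarTower.of_algebraMap_eq fun x =>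
    (Algebra.pushoutDesc_left B' (IsScalarTower.toAlgHom C₁ A' TA) (IsScalarTower.toAlgHom C₁ B₁ TA)
      (fun _ _ => mul_comm _ _) x).symm
  haveI : IsScalarTower B₁ B' TA := IsScalarTower.of_algebraMap_eq fun x =>
    (Algebra.pushoutDesc_right B' (IsScalarTower.toAlgHom C₁ A' TA) (IsScalarTower.toAlgHom C₁ B₁ TA)
      (fun _ _ => mul_comm _ _) x).symm
  haveI : IsScalarTower C₁ B' TA := IsScalarTower.of_algebraMap_eq fun c => (ψ.commutes c).symm
  haveI : Algebra.IsPushout B₁ T B' TA := by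
    haveI : Algebra.IsPushout C₁ T A' TA := hq2
    exact (Algebra.IsPushout.comp_iff (R := C₁) (S := B₁) (R' := A') (S' := B') (T := T) (T' := TA)).1 hq2
  haveI : Algebra.IsPushout B₁ B' T TA := Algebra.IsPushout.symm inferInstance
  haveI : Module.Flat B₁ T := IsLocalization.flat T (Submonoid.powers u')
  haveI : Module.Flat B' TA := Module.Flat.isBaseChange B₁ B' T TA Algebra.IsPushout.out
  letI : Module B₁ LA := Module.compHom LA (algebraMap B₁ TA)
  haveI : IsScalarTower B₁ TA LA := IsScalarTower.of_algebraMap_smul fun _ _ => rfl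
  haveI : IsScalarTower B₁ T LA := IsScalarTower.to₁₂₄ B₁ T TA LA
  letI : Module B' LA := Module.compHom LA (algebraMap B' TA)
  haveI : IsScalarTower B' TA LA := IsScalarTower.of_algebraMap_smul fun _ _ => rfl
  haveI : IsScalarTower B₁ B' LA := IsScalarTower.to₁₂₄ B₁ B' TA LA
  let b : N' →ₗ[B'] LA := hf.lift ((a.restrictScalars B₁).comp (LocalizedModule.mkLinearMap (Submonoid.powers u') N₁))
  have hb : IsBaseChange TA b := IsBaseChange.of_comp hf (by
    rw [show ((b.restrictScalars B₁) ∘ₗ f) = (a.restrictScalars B₁).comp (LocalizedModule.mkLinearMap (Submonoid.powers u') N₁) from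
      LinearMap.ext fun n => hf.lift_eq _ n]
    exact ((isLocalizedModule_iff_isBaseChange (Submonoid.powers u') (Localization.Away u') _).1 inferInstance).comp ha)
  haveI : Module.Flat A' LA := by
    refine Module.flat_of_isLocalized_maximal (R := A') TA LA (fun P _ => LocalizedModule P.primeCompl LA)
      (fun P _ => LocalizedModule.mkLinearMap P.primeCompl LA) fun P _ => ?_
    haveI : (P.comap (algebraMap B' TA)).IsPrime := Ideal.IsPrime.comap _
    haveI : P.LiesOver (P.comap (algebraMap B' TA)) := ⟨rfl⟩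
    refine (DevEtale.flatAt_iff_of_flat A' b hb (P.comap (algebraMap B' TA)) P).1 (hg _ fun h => ?_)
    refine (Ideal.IsMaximal.ne_top ‹_›) (Ideal.eq_top_of_isUnit_mem P h ?_)
    rw [← IsScalarTower.algebraMap_apply B₁ B' TA, IsScalarTower.algebraMap_apply B₁ T TA]
    exact (IsLocalization.Away.algebraMap_isUnit u').map _
  exact Module.Flat.of_linearEquiv ((Algebra.IsPushout.cancelBaseChange C₁ A' T TA L).symm.trans
    (ha.equiv.restrictScalars A'))

set_option maxHeartbeats 1600000 in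
/-- Flatness of a base changed localisation gives flatness where the element is invertible. -/
theorem flatAt_of_flat_away_baseChange {C₁ C₂ B₁ B₂ N₁ N₂ : Type u} [CommRing C₁] [CommRing C₂] [Algebra C₁ C₂]
    [CommRing B₁] [Algebra C₁ B₁] [CommRing B₂] [Algebra C₂ B₂] [Algebra B₁ B₂] [Algebra C₁ B₂]
    [IsScalarTower C₁ C₂ B₂] [IsScalarTower C₁ B₁ B₂] [Algebra.IsPushout C₁ C₂ B₁ B₂] [AddCommGroup N₁]
    [Module B₁ N₁] [Module C₁ N₁] [IsScalarTower C₁ B₁ N₁] [AddCommGroup N₂] [Module B₂ N₂] [Module B₁ N₂]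
    [IsScalarTower B₁ B₂ N₂] [Module C₂ N₂] [IsScalarTower C₂ B₂ N₂] (f₂ : N₁ →ₗ[B₁] N₂) (hf₂ : IsBaseChange B₂ f₂)
    (u' : B₁) (q₂ : Ideal B₂) [q₂.IsPrime] (hu₂ : u' ∉ q₂.comap (algebraMap B₁ B₂))
    (hflat₂ : Module.Flat C₂ (C₂ ⊗[C₁] LocalizedModule (Submonoid.powers u') N₁)) : FlatCA.FlatAt C₂ q₂ N₂ := by
  haveI : Algebra.IsPushout C₁ B₁ C₂ B₂ := Algebra.IsPushout.symm inferInstance
  let T := Localization.Away u'
  let L := LocalizedModule (Submonoid.powers u') N₁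
  obtain ⟨TT, LT, _, _, _, _, _, _, _, _, _, _, _, _, a, hq1, hq2, ha⟩ := FlatPure.exists_base_model C₁ C₂ T L
  haveI := hq1; haveI := hq2
  letI : Algebra B₁ TT := ((algebraMap T TT).comp (algebraMap B₁ T)).toAlgebra
  haveI : IsScalarTower B₁ T TT := IsScalarTower.of_algebraMap_eq' rfl
  haveI : IsScalarTower C₁ B₁ TT := IsScalarTower.of_algebraMap_eq (R := C₁) (S := B₁) (A := TT) fun c => by
    rw [IsScalarTower.algebraMap_apply B₁ T TT, ← IsScalarTower.algebraMap_apply C₁ B₁ T,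
      ← IsScalarTower.algebraMap_apply C₁ T TT]
  let ψ : B₂ →ₐ[C₁] TT := Algebra.pushoutDesc B₂ (IsScalarTower.toAlgHom C₁ C₂ TT) (IsScalarTower.toAlgHom C₁ B₁ TT)
    fun _ _ => mul_comm _ _
  letI : Algebra B₂ TT := ψ.toRingHom.toAlgebra
  haveI : IsScalarTower C₂ B₂ TT := IsScalarTower.of_algebraMap_eq fun x =>
    (Algebra.pushoutDesc_left B₂ (IsScalarTower.toAlgHom C₁ C₂ TT) (IsScalarTower.toAlgHom C₁ B₁ TT)
      (fun _ _ => mul_comm _ _) x).symm
  haveI : IsScalarTower B₁ B₂ TT := IsScalarTower.of_algebraMap_eq fun x =>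
    (Algebra.pushoutDesc_right B₂ (IsScalarTower.toAlgHom C₁ C₂ TT) (IsScalarTower.toAlgHom C₁ B₁ TT)
      (fun _ _ => mul_comm _ _) x).symm
  haveI : IsScalarTower C₁ B₂ TT := IsScalarTower.of_algebraMap_eq fun c => (ψ.commutes c).symm
  haveI : Algebra.IsPushout B₁ T B₂ TT :=
    (Algebra.IsPushout.comp_iff (R := C₁) (S := B₁) (R' := C₂) (S' := B₂) (T := T) (T' := TT)).1 hq2
  haveI : Algebra.IsPushout B₁ B₂ T TT := Algebra.IsPushout.symm inferInstance
  haveI : Module.Flat B₁ T := IsLocalization.flat T (Submonoid.powers u')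
  haveI : Module.Flat B₂ TT := Module.Flat.isBaseChange B₁ B₂ T TT Algebra.IsPushout.out
  letI : Module B₁ LT := Module.compHom LT (algebraMap B₁ TT)
  haveI : IsScalarTower B₁ TT LT := IsScalarTower.of_algebraMap_smul fun _ _ => rfl
  haveI : IsScalarTower B₁ T LT := IsScalarTower.to₁₂₄ B₁ T TT LT
  letI : Module B₂ LT := Module.compHom LT (algebraMap B₂ TT)
  haveI : IsScalarTower B₂ TT LT := IsScalarTower.of_algebraMap_smul fun _ _ => rfl
  haveI : IsScalarTower B₁ B₂ LT := IsScalarTower.to₁₂₄ B₁ B₂ TT LT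
  let b : N₂ →ₗ[B₂] LT := hf₂.lift ((a.restrictScalars B₁).comp (LocalizedModule.mkLinearMap (Submonoid.powers u') N₁))
  have hbb : IsBaseChange TT b := IsBaseChange.of_comp hf₂ (by
    rw [show ((b.restrictScalars B₁) ∘ₗ f₂) = (a.restrictScalars B₁).comp (LocalizedModule.mkLinearMap (Submonoid.powers u') N₁) from
      LinearMap.ext fun n => hf₂.lift_eq _ n]
    exact ((isLocalizedModule_iff_isBaseChange (Submonoid.powers u') (Localization.Away u') _).1 inferInstance).comp ha)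
  haveI : Module.Flat C₂ LT := Module.Flat.of_linearEquiv
    ((Algebra.IsPushout.cancelBaseChange C₁ C₂ T TT L).symm.trans (ha.equiv.restrictScalars C₂)).symm
  obtain ⟨Z, hZ, hZ₂, -⟩ : ∃ Z : Ideal TT, Z.IsPrime ∧ Z.comap (algebraMap B₂ TT) = q₂ ∧ True := by
    haveI : (q₂.comap (algebraMap B₁ B₂)).IsPrime := Ideal.IsPrime.comap _
    have hdisj : Disjoint ((Submonoid.powers u' : Submonoid B₁) : Set B₁) (q₂.comap (algebraMap B₁ B₂) : Set B₁) :=
      (Ideal.disjoint_powers_iff_notMem _ (Ideal.IsPrime.isRadical (Ideal.IsPrime.comap _))).2 hu₂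
    let z : Ideal T := (q₂.comap (algebraMap B₁ B₂)).map (algebraMap B₁ T)
    haveI : z.IsPrime := IsLocalization.isPrime_of_isPrime_disjoint _ T _ inferInstance hdisj
    obtain ⟨Z, hZ, h1, -⟩ := FlatHens.exists_prime_pair (R := B₁) (S := B₂) (T := T) (U := TT) q₂ z
      (IsLocalization.comap_map_of_isPrime_disjoint _ T inferInstance hdisj).symm
    exact ⟨Z, hZ, h1, trivial⟩
  haveI := hZ
  haveI : Z.LiesOver q₂ := ⟨hZ₂.symm⟩
  exact (DevEtale.flatAt_iff_of_flat C₂ b hbb q₂ Z).2 (FlatInj.flat_localizedModule Z.primeCompl)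

set_option maxHeartbeats 1600000 in
theorem exists_flatStageOn_basic [Algebra.FinitePresentation C B₀] [Module.FinitePresentation B₀ N₀]
    (l : N₀ →ₗ[B₀] N) (hl : IsBaseChange B l) (g : B)
    (hg : ∀ (P : Ideal B) [P.IsPrime], g ∉ P → FlatCA.FlatAt A P N) :
    ∃ C₂ : Subalgebra C A, C₂.FG ∧ FlatStageOn C B₀ N₀ C₂ {Q : PrimeSpectrum B | g ∉ Q.asIdeal} := by
  classical
  obtain ⟨C₁, hC₁, u, hu⟩ := exists_lift_elt ((Algebra.IsPushout.equiv C A B₀ B).symm g)
  obtain ⟨B₁, N₁, _, _, _, _, _, _, _, _, _, _, _, _, l₁, hp1, hp2, hl₁⟩ := FlatPure.exists_base_model C C₁ B₀ N₀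
  haveI := hp1; haveI := hp2
  haveI : Algebra.FinitePresentation C₁ B₁ := Algebra.FinitePresentation.equiv (Algebra.IsPushout.equiv C C₁ B₀ B₁)
  haveI : Module.FinitePresentation B₁ N₁ := Module.FinitePresentation.of_equiv hl₁.equiv
  haveI : IsScalarTower C C₁ A := IsScalarTower.of_algebraMap_eq fun _ => rfl
  obtain ⟨_, _, _, hpoB, hpoB', _, _, f, hf⟩ := rebase l₁ hl₁ l hl (C := C) (C₁ := C₁) (C₂ := A)
  haveI := hpoB; haveI := hpoB'
  let u' : B₁ := Algebra.IsPushout.equiv C C₁ B₀ B₁ u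
  have hu' : algebraMap B₁ B u' = g := by
    have hnat : ∀ z : C₁ ⊗[C] B₀, algebraMap B₁ B (Algebra.IsPushout.equiv C C₁ B₀ B₁ z) =
        Algebra.IsPushout.equiv C A B₀ B (limMap C₁ z) := fun z => by
      induction z using TensorProduct.induction_on with
      | zero => simp
      | tmul a b =>
        rw [show limMap C₁ (a ⊗ₜ[C] b) = (a : A) ⊗ₜ[C] b from rfl, Algebra.IsPushout.equiv_tmul,
          Algebra.IsPushout.equiv_tmul, map_mul, ← IsScalarTower.algebraMap_apply C₁ B₁ B,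
          ← IsScalarTower.algebraMap_apply B₀ B₁ B]
        rfl
      | add a b ha hb => simp only [map_add, ha, hb]
    rw [hnat, hu, AlgEquiv.apply_symm_apply]
  let T := Localization.Away u'
  let L := LocalizedModule (Submonoid.powers u') N₁
  haveI : Algebra.FinitePresentation C₁ T := by
    haveI : Algebra.FinitePresentation B₁ T := IsLocalization.Away.finitePresentation u'
    exact Algebra.FinitePresentation.trans C₁ B₁ T
  haveI : Module.FinitePresentation T L := inferInstance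
  let loc : N₁ →ₗ[B₁] L := LocalizedModule.mkLinearMap (Submonoid.powers u') N₁
  have hloc : IsBaseChange T loc :=
    (isLocalizedModule_iff_isBaseChange (Submonoid.powers u') T loc).1 inferInstance
  -- flatness over the limit
  have hflatA : Module.Flat A (A ⊗[C₁] L) := flat_away_baseChange f hf u' (by rw [hu']; exact hg)
  -- a stage over `C₁`
  have hcolim : FlatCA.IsDirectedColimitRing (fun S : Finset A => Algebra.adjoin C₁ (S : Set A))
      (fun S S' hS => (Subalgebra.inclusion (Algebra.adjoin_mono (Finset.coe_subset.mpr hS))).toRingHom) A :=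
    ⟨inferInstance, ⟨∅⟩, fun S => RingHom.ext fun x => rfl, fun S S' S'' h1 h2 => RingHom.ext fun x => rfl,
      fun S S' h1 => RingHom.ext fun x => rfl, fun a => ⟨{a}, ⟨a, Algebra.subset_adjoin (by simp)⟩, rfl⟩,
      fun S x hx => ⟨S, le_rfl, Subtype.ext hx⟩⟩
  obtain ⟨S, hS⟩ := FlatSyz5.exists_flat_stage (fun S : Finset A => Algebra.adjoin C₁ (S : Set A))
    (fun S S' hS => Subalgebra.inclusion (Algebra.adjoin_mono (Finset.coe_subset.mpr hS))) A hcolim (B₀ := T) L hflatA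
  let C₂ : Subalgebra C A := (Algebra.adjoin C₁ (S : Set A)).restrictScalars C
  refine ⟨C₂, ?_, ?_⟩
  · haveI : Algebra.FiniteType C C₁ := (Subalgebra.fg_iff_finiteType C₁).1 hC₁
    haveI : Algebra.FiniteType C₁ (Algebra.adjoin C₁ (S : Set A)) := Algebra.FiniteType.adjoin_of_finite S.finite_toSet
    exact (Subalgebra.fg_iff_finiteType C₂).2
      (Algebra.FiniteType.trans (S := C₁) ‹_› ‹_› : Algebra.FiniteType C (Algebra.adjoin C₁ (S : Set A)))
  intro B₂ N₂ _ _ _ _ _ _ _ _ _ _ _ _ _ l₂ hl₂ _ hb hc Q hQ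
  letI : Algebra C₁ C₂ := (Algebra.adjoin C₁ (S : Set A)).algebra
  haveI : IsScalarTower C C₁ C₂ := IsScalarTower.of_algebraMap_eq (R := C) (S := C₁) (A := C₂) fun _ => Subtype.ext rfl
  haveI hflat₂ : Module.Flat C₂ (C₂ ⊗[C₁] L) := hS
  letI : Algebra C₁ B₂ := ((algebraMap C₂ B₂).comp (algebraMap C₁ C₂)).toAlgebra
  haveI : IsScalarTower C₁ C₂ B₂ := IsScalarTower.of_algebraMap_eq' rfl
  obtain ⟨_, _, _, hpo, hpo', _, _, f₂, hf₂⟩ := rebase l₁ hl₁ l₂ hl₂ (C := C) (C₁ := C₁) (C₂ := C₂)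
  haveI := hpo; haveI := hpo'
  have hmaps : (algebraMap B₂ B).comp (algebraMap B₁ B₂) = algebraMap B₁ B := by
    refine ringHom_ext (C := C) (C₁ := C₁) (B₀ := B₀) _ _ (fun c => ?_) (fun b => ?_)
    · show algebraMap B₂ B (algebraMap B₁ B₂ (algebraMap C₁ B₁ c)) = _
      rw [← IsScalarTower.algebraMap_apply C₁ B₁ B₂, IsScalarTower.algebraMap_apply C₁ C₂ B₂, hc,
        ← IsScalarTower.algebraMap_apply C₁ B₁ B]
      rfl
    · show algebraMap B₂ B (algebraMap B₁ B₂ (algebraMap B₀ B₁ b)) = _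
      rw [← IsScalarTower.algebraMap_apply B₀ B₁ B₂, hb, ← IsScalarTower.algebraMap_apply B₀ B₁ B]
  refine flatAt_of_flat_away_baseChange f₂ hf₂ u' (Q.asIdeal.comap (algebraMap B₂ B)) (fun h => hQ ?_) hflat₂
  rw [← hu', ← hmaps]
  exact h

set_option maxHeartbeats 800000 in
/-- Flatness along a fibre holds on the models over some finitely generated stage. -/
theorem exists_flat_stage_fibre [Algebra.FinitePresentation C B₀] [Module.FinitePresentation B₀ N₀]
    (l : N₀ →ₗ[B₀] N) (hl : IsBaseChange B l) (p : Ideal A) [p.IsPrime]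
    (hflat : ∀ (q : Ideal B) [q.IsPrime], q.LiesOver p → FlatCA.FlatAt A q N) :
    ∃ C₁ : Subalgebra C A, C₁.FG ∧ ∀ (B₁ N₁ : Type u) [CommRing B₁] [Algebra C₁ B₁] [Algebra B₀ B₁] [Algebra C B₁]
      [IsScalarTower C C₁ B₁] [IsScalarTower C B₀ B₁] [Algebra.IsPushout C C₁ B₀ B₁] [AddCommGroup N₁]
      [Module B₁ N₁] [Module B₀ N₁] [IsScalarTower B₀ B₁ N₁] [Module C₁ N₁] [IsScalarTower C₁ B₁ N₁]
      (l₁ : N₀ →ₗ[B₀] N₁), IsBaseChange B₁ l₁ →
      ∀ (q : Ideal B₁) [q.IsPrime], q.LiesOver (p.comap (algebraMap C₁ A)) → FlatCA.FlatAt C₁ q N₁ := by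
  haveI : Algebra.FinitePresentation A B := Algebra.FinitePresentation.equiv (Algebra.IsPushout.equiv C A B₀ B)
  haveI : Module.FinitePresentation B N := Module.FinitePresentation.of_equiv hl.equiv
  let K : Set (PrimeSpectrum B) := {Q | Q.asIdeal.LiesOver p}
  have hK : IsCompact K := by
    letI : Algebra B (p.Fiber B) := Algebra.TensorProduct.rightAlgebra
    have : K = Set.range (PrimeSpectrum.comap (algebraMap B (p.Fiber B))) := Set.ext fun Q => by
      constructor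
      · intro hQ
        haveI : Q.asIdeal.LiesOver p := hQ
        refine ⟨PrimeSpectrum.primesOverOrderIsoFiber A B p ⟨Q.asIdeal, Q.isPrime, hQ⟩, PrimeSpectrum.ext ?_⟩
        exact congrArg Subtype.val
          ((PrimeSpectrum.primesOverOrderIsoFiber A B p).symm_apply_apply ⟨Q.asIdeal, Q.isPrime, hQ⟩)
      · rintro ⟨x, rfl⟩
        exact ((PrimeSpectrum.primesOverOrderIsoFiber A B p).symm x).2.2
    rw [this]
    exact isCompact_range (PrimeSpectrum.continuous_comap _)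
  obtain ⟨C₁, hC₁, hon⟩ : ∃ C₁ : Subalgebra C A, C₁.FG ∧ FlatStageOn C B₀ N₀ C₁ K := by
    refine hK.induction_on (p := fun V => ∃ C₁ : Subalgebra C A, C₁.FG ∧ FlatStageOn C B₀ N₀ C₁ V)
      ⟨⊥, Subalgebra.fg_bot, fun _ _ => by intros; exact absurd ‹_ ∈ (∅ : Set _)› (Set.notMem_empty _)⟩
      (fun V W hVW ⟨C₁, h1, h2⟩ => ⟨C₁, h1, fun B₁ N₁ => by
        intro _ _ _ _ _ _ _ _ _ _ _ _ _ l₁ hl₁ _ hb hc Q hQ
        exact h2 B₁ N₁ l₁ hl₁ hb hc Q (hVW hQ)⟩)
      (fun V W ⟨C₁, h1, h2⟩ ⟨C₂, h3, h4⟩ => ⟨C₁ ⊔ C₂, Subalgebra.FG.sup h1 h3, fun B₁ N₁ => by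
        intro _ _ _ _ _ _ _ _ _ _ _ _ _ l₁ hl₁ _ hb hc Q hQ
        rcases hQ with hQ | hQ
        · exact flatStageOn_mono le_sup_left h2 B₁ N₁ l₁ hl₁ hb hc Q hQ
        · exact flatStageOn_mono le_sup_right h4 B₁ N₁ l₁ hl₁ hb hc Q hQ⟩) fun Q hQ => ?_
    obtain ⟨g, hgQ, hgflat⟩ := FlatModel.exists_flat_nhd (R := A) N Q.asIdeal (hflat Q.asIdeal hQ)
    obtain ⟨C₂, h1, h2⟩ := exists_flatStageOn_basic (C := C) l hl g fun P _ hgP => hgflat _ hgP
    exact ⟨{Q : PrimeSpectrum B | g ∉ Q.asIdeal}, mem_nhdsWithin_of_mem_nhds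
      ((PrimeSpectrum.basicOpen g).isOpen.mem_nhds hgQ), C₂, h1, h2⟩
  refine ⟨C₁, hC₁, ?_⟩
  intro B₁ N₁ _ _ _ _ _ _ _ _ _ _ _ _ _ l₁ hl₁ q _ hq
  haveI : IsScalarTower C C₁ A := IsScalarTower.of_algebraMap_eq fun _ => rfl
  obtain ⟨_, _, _, hpo, hpo', _, _, f, hf⟩ := rebase l₁ hl₁ l hl (C := C) (C₁ := C₁) (C₂ := A)
  haveI := hpo; haveI := hpo'
  obtain ⟨Q, hQ, hQp, hQq⟩ := FlatHens.exists_prime_pair (R := C₁) (S := A) (T := B₁) (U := B) p q hq.over
  haveI := hQ
  have h1 := hon B₁ N₁ l₁ hl₁ (fun b => (IsScalarTower.algebraMap_apply B₀ B₁ B b).symm)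
    (fun c => by rw [← IsScalarTower.algebraMap_apply C₁ B₁ B]; rfl) ⟨Q, hQ⟩ ⟨hQp.symm⟩
  subst hQq
  exact h1

end Groth.Agent.FlatStage
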