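import Groth.Agent.SpreadInj.Main

/-! Fibrewise injectivity over a noetherian base is described by finitely many strata. -/

set_option autoImplicit false
set_option linter.style.haveILetI false

universe u

open TensorProduct

namespace Groth.Agent.FlatStage

set_option maxHeartbeats 800000 in
/-- Finitely many pairs `(g, P)` describe the points where the map is not injective on the fibre. -/
theorem exists_strata {R₀ T₀ M M' : Type u} [CommRing R₀] [IsNoetherianRing R₀] [CommRing T₀] [Algebra R₀ T₀]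
    [Algebra.FiniteType R₀ T₀] [AddCommGroup M] [Module T₀ M] [Module R₀ M] [IsScalarTower R₀ T₀ M]
    [Module.Finite T₀ M] [AddCommGroup M'] [Module T₀ M'] [Module R₀ M'] [IsScalarTower R₀ T₀ M']
    [Module.Finite T₀ M'] (φ : M →ₗ[T₀] M') :
    ∃ L : List (R₀ × Ideal R₀),
      (∀ x ∈ L, ∀ (q : Ideal R₀) [q.IsPrime], x.2 ≤ q → x.1 ∉ q →
        ¬ Function.Injective ((φ.restrictScalars R₀).lTensor q.ResidueField)) ∧
      ∀ (q : Ideal R₀) [q.IsPrime], ¬ Function.Injective ((φ.restrictScalars R₀).lTensor q.ResidueField) →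
        ∃ x ∈ L, x.2 ≤ q ∧ x.1 ∉ q := by
  suffices H : ∀ J : Ideal R₀, ∃ L : List (R₀ × Ideal R₀),
      (∀ x ∈ L, ∀ (q : Ideal R₀) [q.IsPrime], x.2 ≤ q → x.1 ∉ q →
        ¬ Function.Injective ((φ.restrictScalars R₀).lTensor q.ResidueField)) ∧
      ∀ (q : Ideal R₀) [q.IsPrime], J ≤ q → ¬ Function.Injective ((φ.restrictScalars R₀).lTensor q.ResidueField) →
        ∃ x ∈ L, x.2 ≤ q ∧ x.1 ∉ q by
    obtain ⟨L, h1, h2⟩ := H ⊥
    exact ⟨L, h1, fun q _ hq => h2 q bot_le hq⟩
  intro J
  induction J using WellFoundedGT.induction with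
  | ind J ih =>
    by_cases hJ : J = ⊤
    · exact ⟨[], by simp, fun q _ hle _ => absurd (top_le_iff.1 (hJ ▸ hle)) (Ideal.IsPrime.ne_top ‹_›)⟩
    by_cases hP : J.IsPrime
    · haveI := hP
      obtain ⟨g, hg, hall⟩ := SpreadInj.exists_const_quot φ J
      obtain ⟨L, h1, h2⟩ := ih (J ⊔ Ideal.span {g})
        (left_lt_sup.2 fun hle => hg (hle (Ideal.mem_span_singleton_self g)))
      rcases hall with hall | hall
      · refine ⟨L, h1, fun q _ hle hq => ?_⟩
        by_cases hgq : g ∈ q
        · exact h2 q (sup_le hle ((Ideal.span_singleton_le_iff_mem (I := q)).2 hgq)) hq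
        · exact absurd (hall q hle hgq) hq
      · refine ⟨(g, J) :: L, fun x hx q _ hle hgq => ?_, fun q _ hle hq => ?_⟩
        · rcases List.mem_cons.1 hx with rfl | hx
          · exact hall q hle hgq
          · exact h1 x hx q hle hgq
        · by_cases hgq : g ∈ q
          · obtain ⟨x, hx, hx'⟩ := h2 q (sup_le hle ((Ideal.span_singleton_le_iff_mem (I := q)).2 hgq)) hq
            exact ⟨x, List.mem_cons_of_mem _ hx, hx'⟩
          · exact ⟨(g, J), List.mem_cons_self, hle, hgq⟩
    · obtain ⟨a, ha, b, hb, hab⟩ := (Ideal.not_isPrime_iff.1 hP).resolve_left hJ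
      obtain ⟨L₁, h11, h12⟩ := ih (J ⊔ Ideal.span {a})
        (left_lt_sup.2 fun hle => ha (hle (Ideal.mem_span_singleton_self a)))
      obtain ⟨L₂, h21, h22⟩ := ih (J ⊔ Ideal.span {b})
        (left_lt_sup.2 fun hle => hb (hle (Ideal.mem_span_singleton_self b)))
      refine ⟨L₁ ++ L₂, fun x hx => (List.mem_append.1 hx).elim (h11 x) (h21 x), fun q _ hle hq => ?_⟩
      rcases Ideal.IsPrime.mem_or_mem ‹q.IsPrime› (hle hab) with ha' | hb'
      · obtain ⟨x, hx, hx'⟩ := h12 q (sup_le hle ((Ideal.span_singleton_le_iff_mem (I := q)).2 ha')) hq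
        exact ⟨x, List.mem_append_left _ hx, hx'⟩
      · obtain ⟨x, hx, hx'⟩ := h22 q (sup_le hle ((Ideal.span_singleton_le_iff_mem (I := q)).2 hb')) hq
        exact ⟨x, List.mem_append_right _ hx, hx'⟩

end Groth.Agent.FlatStage
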