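import Groth.Agent.FlatStage.Flat
import Groth.Agent.FlatStage.Strata
import Groth.Agent.FlatPure.Open
import Groth.Agent.DevExist.Finish

/-! Universal purity along a fibre descends to a finitely generated stage. -/

set_option autoImplicit false
set_option backward.isDefEq.respectTransparency false
set_option backward.isDefEq.respectTransparency.types false
attribute [-instance] CategoryTheory.catToReflQuiver
set_option linter.style.haveILetI false

universe u

open TensorProduct IsLocalRing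

namespace Groth.Agent.FlatStage

open FlatPure

set_option maxHeartbeats 3200000 in
/-- Over the limit the associated points of the fibres at generalisations are covered. -/
theorem covered_at_limit {C A R₁ R' B₁ B T₁ S₁ N₁ N NT₁ : Type u} [CommRing C] [CommRing A] [Algebra C A]
    [CommRing R₁] [Algebra C R₁] [Algebra.Etale C R₁] [CommRing R'] [Algebra A R'] [Algebra R₁ R'] [Algebra C R']
    [IsScalarTower C A R'] [IsScalarTower C R₁ R'] [Algebra.IsPushout C A R₁ R'] [Algebra.IsPushout C R₁ A R']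
    [CommRing B₁] [Algebra C B₁] [Algebra.FinitePresentation C B₁] [CommRing B] [Algebra A B] [Algebra B₁ B]
    [Algebra C B] [IsScalarTower C A B] [IsScalarTower C B₁ B] [Algebra.IsPushout C A B₁ B]
    [Algebra.IsPushout C B₁ A B]
    [CommRing T₁] [Algebra R₁ T₁] [Algebra B₁ T₁] [Algebra C T₁] [IsScalarTower C R₁ T₁] [IsScalarTower C B₁ T₁]
    [Algebra.IsPushout C R₁ B₁ T₁] [Algebra.IsPushout C B₁ R₁ T₁]
    [CommRing S₁] [Algebra B₁ S₁] [Algebra R₁ S₁] [Algebra T₁ S₁] [IsScalarTower B₁ T₁ S₁] [IsScalarTower R₁ T₁ S₁]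
    [Algebra.Etale B₁ S₁]
    [AddCommGroup N₁] [Module B₁ N₁] [Module.Finite B₁ N₁] [AddCommGroup N] [Module B N] [Module B₁ N]
    [IsScalarTower B₁ B N] [Module A N] [IsScalarTower A B N]
    [AddCommGroup NT₁] [Module T₁ NT₁] [Module B₁ NT₁] [IsScalarTower B₁ T₁ NT₁]
    (f : N₁ →ₗ[B₁] N) (hf : IsBaseChange B f) (g : N₁ →ₗ[B₁] NT₁) (hg : IsBaseChange T₁ g)
    (p : Ideal A) [p.IsPrime] (p₁ : Ideal R₁) [p₁.IsPrime] (pC : Ideal C) [pC.IsPrime]
    (hpC : pC = p.comap (algebraMap C A)) [p₁.LiesOver pC]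
    (hκ : Function.Bijective (Ideal.ResidueField.mapₐ pC p₁ (Algebra.ofId C R₁) (Ideal.over_def p₁ pC)))
    (hlift : ∀ (Q : Ideal B₁) [Q.IsPrime], Q.LiesOver pC →
      ∃ Q' : Ideal S₁, Q'.IsPrime ∧ Q'.comap (algebraMap B₁ S₁) = Q ∧ Q'.LiesOver p₁)
    (hflat : ∀ (q : Ideal B) [q.IsPrime], q.LiesOver p → FlatCA.FlatAt A q N)
    (hpure : FlatCA.IsPureAlong A B N p) :
    ∃ (p' : Ideal R') (_ : p'.IsPrime), p'.comap (algebraMap A R') = p ∧ p'.comap (algebraMap R₁ R') = p₁ ∧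
      ∀ (t : Ideal R') [t.IsPrime], t ≤ p' → ∀ (Q : Ideal T₁) [Q.IsPrime] [Q.LiesOver (t.comap (algebraMap R₁ R'))],
        FlatCA.fiberIdeal (t.comap (algebraMap R₁ R')) Q ∈
            associatedPrimes ((t.comap (algebraMap R₁ R')).Fiber T₁)
              (FlatCA.fiberMod (t.comap (algebraMap R₁ R')) T₁ NT₁) →
          ∃ Q' : Ideal S₁, Q'.IsPrime ∧ Q'.comap (algebraMap T₁ S₁) = Q := by
  haveI : p.LiesOver pC := ⟨hpC⟩
  obtain ⟨p', hp', hp'p, hp'1⟩ := FlatDevBC.exists_prime_over (R := C) (R' := R₁) (T := A) (T' := R') pC p₁ hκ p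
  haveI := hp'; haveI := hp'p; haveI := hp'1
  refine ⟨p', hp', hp'p.over.symm, hp'1.over.symm, ?_⟩
  haveI : Algebra.Etale A R' := etale_of_isPushout (R := C) (S := A) (R' := R₁) (S' := R')
  have hκ' : Function.Bijective (Ideal.ResidueField.mapₐ p p' (Algebra.ofId A R') hp'p.over) :=
    (DevExist.bijective_mapₐ_iff p p').2 (FlatDevBC.residueField_bijective pC p₁ hκ p p')
  have het : FlatCA.IsEtaleNhd A R' p p' := ⟨inferInstance, hp'p, hκ'⟩
  obtain ⟨TA, NA, _, _, _, _, _, _, _, _, _, _, _, _, fA, hpA', hpA, hfA⟩ := exists_base_model A R' B N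
  haveI := hpA'; haveI := hpA
  letI : Algebra B₁ TA := ((algebraMap B TA).comp (algebraMap B₁ B)).toAlgebra
  haveI : IsScalarTower B₁ B TA := IsScalarTower.of_algebraMap_eq' rfl
  letI : Algebra C TA := ((algebraMap R' TA).comp (algebraMap C R')).toAlgebra
  haveI : IsScalarTower C R' TA := IsScalarTower.of_algebraMap_eq' rfl
  haveI : IsScalarTower C A TA := IsScalarTower.of_algebraMap_eq fun c => by
    rw [IsScalarTower.algebraMap_apply A R' TA, ← IsScalarTower.algebraMap_apply C A R',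
      ← IsScalarTower.algebraMap_apply C R' TA]
  haveI : IsScalarTower C B₁ TA := IsScalarTower.of_algebraMap_eq fun c => by
    rw [IsScalarTower.algebraMap_apply B₁ B TA, ← IsScalarTower.algebraMap_apply C B₁ B,
      IsScalarTower.algebraMap_apply C A B, ← IsScalarTower.algebraMap_apply A B TA,
      ← IsScalarTower.algebraMap_apply C A TA]
  haveI : Algebra.IsPushout C R' B₁ TA := by
    haveI : Algebra.IsPushout C B₁ R' TA := Algebra.IsPushout.symm (DevExist.isPushout_trans C A R' B₁ B TA)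
    exact Algebra.IsPushout.symm inferInstance
  letI : Algebra R₁ TA := ((algebraMap R' TA).comp (algebraMap R₁ R')).toAlgebra
  haveI : IsScalarTower R₁ R' TA := IsScalarTower.of_algebraMap_eq' rfl
  letI : Module B₁ NA := Module.compHom NA (algebraMap B₁ TA)
  haveI : IsScalarTower B₁ TA NA := IsScalarTower.of_algebraMap_smul fun _ _ => rfl
  haveI : IsScalarTower B₁ B NA := IsScalarTower.to₁₂₄ B₁ B TA NA
  obtain ⟨_, _, _, hpo, hpo', _, _, e, he⟩ := rebase (C := C) (C₁ := R₁) (C₂ := R') g hg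
    ((fA.restrictScalars B₁).comp f) (hf.comp hfA)
  haveI := hpo; haveI := hpo'
  obtain ⟨SA, _, _, _, hps⟩ : ∃ (SA : Type u) (_ : CommRing SA) (_ : Algebra TA SA) (_ : Algebra S₁ SA),
      (letI : Algebra T₁ SA := ((algebraMap TA SA).comp (algebraMap T₁ TA)).toAlgebra
       ∃ (_ : IsScalarTower T₁ TA SA) (_ : IsScalarTower T₁ S₁ SA), Algebra.IsPushout T₁ TA S₁ SA) := by
    letI : Algebra S₁ (TA ⊗[T₁] S₁) := Algebra.TensorProduct.rightAlgebra
    haveI : IsScalarTower T₁ S₁ (TA ⊗[T₁] S₁) := Algebra.TensorProduct.right_isScalarTower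
    have hp : Algebra.IsPushout T₁ TA S₁ (TA ⊗[T₁] S₁) := TensorProduct.isPushout (R := T₁) (S := TA) (T := S₁)
    refine ⟨TA ⊗[T₁] S₁, inferInstance, inferInstance, inferInstance, ?_⟩
    have e : ((algebraMap TA (TA ⊗[T₁] S₁)).comp (algebraMap T₁ TA)).toAlgebra =
        (inferInstance : Algebra T₁ (TA ⊗[T₁] S₁)) :=
      Algebra.algebra_ext _ _ fun r => (IsScalarTower.algebraMap_apply T₁ TA (TA ⊗[T₁] S₁) r).symm
    rw [e]
    exact ⟨inferInstance, inferInstance, hp⟩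
  letI : Algebra T₁ SA := ((algebraMap TA SA).comp (algebraMap T₁ TA)).toAlgebra
  obtain ⟨_, _, hps⟩ := hps
  haveI := hps
  haveI : Algebra.IsPushout T₁ S₁ TA SA := Algebra.IsPushout.symm inferInstance
  haveI : Algebra.Etale B₁ T₁ := etale_of_isPushout (R := C) (S := B₁) (R' := R₁) (S' := T₁)
  haveI : Algebra.Etale T₁ S₁ := Algebra.Etale.of_restrictScalars B₁ T₁ S₁
  haveI : Algebra.Etale TA SA := etale_of_isPushout (R := T₁) (S := TA) (R' := S₁) (S' := SA)
  haveI : Algebra.IsPushout A B R' TA := hpA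
  haveI : Algebra.Etale B TA := etale_of_isPushout (R := A) (S := B) (R' := R') (S' := TA)
  letI : Algebra B SA := ((algebraMap TA SA).comp (algebraMap B TA)).toAlgebra
  haveI : IsScalarTower B TA SA := IsScalarTower.of_algebraMap_eq' rfl
  haveI : Algebra.Etale B SA := Algebra.Etale.comp B TA SA
  letI : Algebra R' SA := ((algebraMap TA SA).comp (algebraMap R' TA)).toAlgebra
  haveI : IsScalarTower R' TA SA := IsScalarTower.of_algebraMap_eq' rfl
  letI : Algebra A SA := ((algebraMap R' SA).comp (algebraMap A R')).toAlgebra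
  haveI : IsScalarTower A R' SA := IsScalarTower.of_algebraMap_eq' rfl
  haveI : IsScalarTower A B SA := IsScalarTower.of_algebraMap_eq fun a => by
    show algebraMap TA SA (algebraMap R' TA (algebraMap A R' a)) = algebraMap TA SA (algebraMap B TA (algebraMap A B a))
    rw [← IsScalarTower.algebraMap_apply A R' TA, ← IsScalarTower.algebraMap_apply A B TA]
  haveI : Algebra.FinitePresentation A B := Algebra.FinitePresentation.equiv (Algebra.IsPushout.equiv C A B₁ B)
  haveI : Module.Finite B N := Module.Finite.equiv hf.equiv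
  have hcov : ∀ (q : Ideal B) [q.IsPrime], q.LiesOver p →
      FlatCA.fiberIdeal p q ∈ associatedPrimes (p.Fiber B) (FlatCA.fiberMod p B N) →
      ∃ q' : Ideal SA, q'.IsPrime ∧ q'.comap (algebraMap B SA) = q ∧ q'.comap (algebraMap R' SA) = p' := by
    intro q _ hq _
    haveI := hq
    let q₁ : Ideal B₁ := q.comap (algebraMap B₁ B)
    haveI : q₁.IsPrime := Ideal.IsPrime.comap _
    haveI hq₁ : q₁.LiesOver pC := ⟨by
      show pC = (q.comap (algebraMap B₁ B)).comap (algebraMap C B₁)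
      rw [Ideal.comap_comap, ← IsScalarTower.algebraMap_eq, IsScalarTower.algebraMap_eq C A B, ← Ideal.comap_comap,
        show q.comap (algebraMap A B) = p from hq.over.symm, hpC]⟩
    obtain ⟨Q₁, hQ₁, hQ₁q, hQ₁p⟩ := hlift q₁ hq₁
    haveI := hQ₁; haveI := hQ₁p
    obtain ⟨y, hy, hyq, hyp⟩ := FlatDevBC.exists_prime_over (R := A) (R' := R') (T := B) (T' := TA) p p' hκ' q
    haveI := hy; haveI := hyq; haveI := hyp
    let z : Ideal T₁ := y.comap (algebraMap T₁ TA)
    let z' : Ideal T₁ := Q₁.comap (algebraMap T₁ S₁)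
    haveI : z.IsPrime := Ideal.IsPrime.comap _
    haveI : z'.IsPrime := Ideal.IsPrime.comap _
    haveI : z.LiesOver q₁ := ⟨by
      show q₁ = (y.comap (algebraMap T₁ TA)).comap (algebraMap B₁ T₁)
      rw [Ideal.comap_comap, ← IsScalarTower.algebraMap_eq, IsScalarTower.algebraMap_eq B₁ B TA, ← Ideal.comap_comap,
        show y.comap (algebraMap B TA) = q from hyq.over.symm]⟩
    haveI : z.LiesOver p₁ := ⟨by
      show p₁ = (y.comap (algebraMap T₁ TA)).comap (algebraMap R₁ T₁)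
      rw [Ideal.comap_comap, ← IsScalarTower.algebraMap_eq, IsScalarTower.algebraMap_eq R₁ R' TA, ← Ideal.comap_comap,
        show y.comap (algebraMap R' TA) = p' from hyp.over.symm]
      exact hp'1.over⟩
    haveI : z'.LiesOver q₁ := ⟨by
      show q₁ = (Q₁.comap (algebraMap T₁ S₁)).comap (algebraMap B₁ T₁)
      rw [Ideal.comap_comap, ← IsScalarTower.algebraMap_eq, hQ₁q]⟩
    haveI : z'.LiesOver p₁ := ⟨by
      show p₁ = (Q₁.comap (algebraMap T₁ S₁)).comap (algebraMap R₁ T₁)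
      rw [Ideal.comap_comap, ← IsScalarTower.algebraMap_eq]
      exact hQ₁p.over⟩
    have hzz : z = z' := FlatDevBC.eq_of_liesOver (R := C) (R' := R₁) (T := B₁) (T' := T₁) pC p₁ hκ q₁ z z'
    obtain ⟨q', hq', h1, -⟩ := S6919.exists_prime_over (R := T₁) (S := TA) (R' := S₁) (S' := SA) y Q₁ hzz
    refine ⟨q', hq', ?_, ?_⟩
    · rw [IsScalarTower.algebraMap_eq B TA SA, ← Ideal.comap_comap, h1]
      exact hyq.over.symm
    · rw [IsScalarTower.algebraMap_eq R' TA SA, ← Ideal.comap_comap, h1]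
      exact hyp.over.symm
  haveI : Algebra.FinitePresentation R₁ T₁ := Algebra.FinitePresentation.equiv (Algebra.IsPushout.equiv C R₁ B₁ T₁)
  intro t _ htp Q _ _ hass
  haveI : (t.comap (algebraMap R₁ R')).IsPrime := Ideal.IsPrime.comap _
  haveI : t.LiesOver (t.comap (algebraMap R₁ R')) := ⟨rfl⟩
  obtain ⟨P', hP', hP't, hP'Q, hassP⟩ := (fibre_assoc (A := R₁) (A' := R') (B := T₁) (B' := TA) e he
    (t.comap (algebraMap R₁ R')) t).1 Q hass
  haveI := hP'
  obtain ⟨Z, hZ, hZP⟩ := covers_of_isPureAlong (B' := SA) fA hfA p p' het hflat hcov hpure t htp P' hP't hassP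
  refine ⟨Z.comap (algebraMap S₁ SA), Ideal.IsPrime.comap _, ?_⟩
  rw [Ideal.comap_comap, ← IsScalarTower.algebraMap_eq, IsScalarTower.algebraMap_eq T₁ TA SA, ← Ideal.comap_comap, hZP]
  exact hP'Q.over.symm

/-- Associated points of fibres only depend on the prime of the base. -/
theorem fibre_assoc_congr {R T M : Type u} [CommRing R] [CommRing T] [Algebra R T] [AddCommGroup M] [Module T M]
    (Q : Ideal T) {w w' : Ideal R} [w.IsPrime] [w'.IsPrime] (h : w = w')
    (hQ : FlatCA.fiberIdeal w Q ∈ associatedPrimes (w.Fiber T) (FlatCA.fiberMod w T M)) :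
    FlatCA.fiberIdeal w' Q ∈ associatedPrimes (w'.Fiber T) (FlatCA.fiberMod w' T M) := by
  subst h
  exact hQ

set_option maxHeartbeats 3200000 in
/-- At a stage where the covering holds near the point, the module is universally pure. -/
theorem univPure_of_covered {C C₂ R₁ R₂ B₁ B₂ T₁ S₁ N₁ N₂ NT₁ : Type u} [CommRing C] [CommRing C₂] [Algebra C C₂]
    [CommRing R₁] [Algebra C R₁] [Algebra.Etale C R₁] [CommRing R₂] [Algebra C₂ R₂] [Algebra R₁ R₂] [Algebra C R₂]
    [IsScalarTower C C₂ R₂] [IsScalarTower C R₁ R₂] [Algebra.IsPushout C C₂ R₁ R₂]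
    [CommRing B₁] [Algebra C B₁] [Algebra.FinitePresentation C B₁] [CommRing B₂] [Algebra C₂ B₂] [Algebra B₁ B₂]
    [Algebra C B₂] [IsScalarTower C C₂ B₂] [IsScalarTower C B₁ B₂] [Algebra.IsPushout C C₂ B₁ B₂]
    [CommRing T₁] [Algebra R₁ T₁] [Algebra B₁ T₁] [Algebra C T₁] [IsScalarTower C R₁ T₁] [IsScalarTower C B₁ T₁]
    [Algebra.IsPushout C R₁ B₁ T₁]
    [CommRing S₁] [Algebra T₁ S₁] [Algebra R₁ S₁] [IsScalarTower R₁ T₁ S₁] [Algebra.Etale T₁ S₁]
    [AddCommGroup N₁] [Module B₁ N₁] [Module.Finite B₁ N₁] [AddCommGroup N₂] [Module B₂ N₂] [Module B₁ N₂]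
    [IsScalarTower B₁ B₂ N₂]
    [AddCommGroup NT₁] [Module T₁ NT₁] [Module B₁ NT₁] [IsScalarTower B₁ T₁ NT₁]
    {M : Type u} [AddCommGroup M] [Module S₁ M] [Module T₁ M] [IsScalarTower T₁ S₁ M] [Module R₁ M]
    [IsScalarTower R₁ S₁ M] [Module.Projective R₁ M] (u₁ : NT₁ →ₗ[T₁] M) (hu₁ : IsBaseChange S₁ u₁)
    (f : N₁ →ₗ[B₁] N₂) (hf : IsBaseChange B₂ f) (g : N₁ →ₗ[B₁] NT₁) (hg : IsBaseChange T₁ g)
    (p₂ : Ideal C₂) [p₂.IsPrime] (p' : Ideal R₂) [p'.IsPrime] (hp' : p'.comap (algebraMap C₂ R₂) = p₂)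
    (v : R₂) (hv : v ∉ p')
    (hcov : ∀ (t : Ideal R₂) [t.IsPrime], v ∉ t → ∀ (Q : Ideal T₁) [Q.IsPrime]
      [Q.LiesOver (t.comap (algebraMap R₁ R₂))],
        FlatCA.fiberIdeal (t.comap (algebraMap R₁ R₂)) Q ∈
            associatedPrimes ((t.comap (algebraMap R₁ R₂)).Fiber T₁)
              (FlatCA.fiberMod (t.comap (algebraMap R₁ R₂)) T₁ NT₁) →
          ∃ Q' : Ideal S₁, Q'.IsPrime ∧ Q'.comap (algebraMap T₁ S₁) = Q) :
    FlatCA.IsUnivPureAlong C₂ B₂ N₂ p₂ := by
  haveI : Algebra.IsPushout C R₁ C₂ R₂ := Algebra.IsPushout.symm inferInstance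
  haveI : Algebra.Etale C₂ R₂ := etale_of_isPushout (R := C) (S := C₂) (R' := R₁) (S' := R₂)
  let L' := Localization.AtPrime p'
  haveI : Algebra.FinitePresentation C₂ B₂ := Algebra.FinitePresentation.equiv (Algebra.IsPushout.equiv C C₂ B₁ B₂)
  haveI : Module.Finite B₂ N₂ := Module.Finite.equiv hf.equiv
  obtain ⟨TL, NL, _, _, _, _, _, _, _, _, _, _, _, _, fL, hpL', hpL, hfL⟩ := exists_base_model C₂ L' B₂ N₂
  haveI := hpL'; haveI := hpL
  haveI : IsScalarTower R₁ R₂ L' := inferInstance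
  haveI : IsScalarTower C R₁ L' := IsScalarTower.of_algebraMap_eq fun c => by
    rw [IsScalarTower.algebraMap_apply R₁ R₂ L', ← IsScalarTower.algebraMap_apply C R₁ R₂,
      ← IsScalarTower.algebraMap_apply C R₂ L']
  haveI : IsScalarTower C C₂ L' := IsScalarTower.of_algebraMap_eq fun c => by
    rw [IsScalarTower.algebraMap_apply C₂ R₂ L', ← IsScalarTower.algebraMap_apply C C₂ R₂,
      ← IsScalarTower.algebraMap_apply C R₂ L']
  letI : Algebra B₁ TL := ((algebraMap B₂ TL).comp (algebraMap B₁ B₂)).toAlgebra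
  haveI : IsScalarTower B₁ B₂ TL := IsScalarTower.of_algebraMap_eq' rfl
  letI : Algebra C TL := ((algebraMap L' TL).comp (algebraMap C L')).toAlgebra
  haveI : IsScalarTower C L' TL := IsScalarTower.of_algebraMap_eq' rfl
  haveI : IsScalarTower C C₂ TL := IsScalarTower.of_algebraMap_eq fun c => by
    rw [IsScalarTower.algebraMap_apply C₂ L' TL, ← IsScalarTower.algebraMap_apply C C₂ L',
      ← IsScalarTower.algebraMap_apply C L' TL]
  haveI : IsScalarTower C B₁ TL := IsScalarTower.of_algebraMap_eq fun c => by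
    rw [IsScalarTower.algebraMap_apply B₁ B₂ TL, ← IsScalarTower.algebraMap_apply C B₁ B₂,
      IsScalarTower.algebraMap_apply C C₂ B₂, ← IsScalarTower.algebraMap_apply C₂ B₂ TL,
      ← IsScalarTower.algebraMap_apply C C₂ TL]
  haveI : Algebra.IsPushout C L' B₁ TL := DevExist.isPushout_trans C C₂ L' B₁ B₂ TL
  letI : Algebra R₁ TL := ((algebraMap L' TL).comp (algebraMap R₁ L')).toAlgebra
  haveI : IsScalarTower R₁ L' TL := IsScalarTower.of_algebraMap_eq' rfl
  letI : Module B₁ NL := Module.compHom NL (algebraMap B₁ TL)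
  haveI : IsScalarTower B₁ TL NL := IsScalarTower.of_algebraMap_smul fun _ _ => rfl
  haveI : IsScalarTower B₁ B₂ NL := IsScalarTower.to₁₂₄ B₁ B₂ TL NL
  obtain ⟨_, _, _, hpo, hpo', _, _, e, he⟩ := rebase (C := C) (C₁ := R₁) (C₂ := L') g hg
    ((fL.restrictScalars B₁).comp f) (hf.comp hfL)
  haveI := hpo; haveI := hpo'
  haveI : Algebra.FinitePresentation R₁ T₁ := Algebra.FinitePresentation.equiv (Algebra.IsPushout.equiv C R₁ B₁ T₁)
  haveI : Module.Finite T₁ NT₁ := Module.Finite.equiv hg.equiv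
  haveI : Module.Projective L' NL := projective_baseChange_of_covers (R := R₁) (C := S₁) u₁ hu₁ e he
    fun s _ Q _ hQ hass => by
      haveI : (s.comap (algebraMap R₂ L')).IsPrime := Ideal.IsPrime.comap _
      have hs : s.comap (algebraMap R₁ L') = (s.comap (algebraMap R₂ L')).comap (algebraMap R₁ R₂) := by
        rw [Ideal.comap_comap, ← IsScalarTower.algebraMap_eq]
      haveI : Q.LiesOver ((s.comap (algebraMap R₂ L')).comap (algebraMap R₁ R₂)) := hs ▸ hQ
      refine hcov (s.comap (algebraMap R₂ L')) (fun h => (‹s.IsPrime›).ne_top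
        (Ideal.eq_top_of_isUnit_mem _ h (IsLocalization.map_units L' (⟨v, hv⟩ : p'.primeCompl)))) Q ?_
      exact fibre_assoc_congr Q hs hass
  haveI : Module.Flat C₂ L' := flat_atPrime p'
  haveI : (maximalIdeal L').LiesOver p' := ⟨(Localization.AtPrime.comap_maximalIdeal).symm⟩
  haveI : p'.LiesOver p₂ := ⟨hp'.symm⟩
  haveI : (maximalIdeal L').LiesOver p₂ := Ideal.LiesOver.trans (maximalIdeal L') p' p₂
  exact isUnivPureAlong_of_model (A := L') fL hfL p₂

variable {C A B₁ B N₁ N : Type u} [CommRing C] [IsNoetherianRing C] [CommRing A] [Algebra C A] [CommRing B₁]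
  [Algebra C B₁] [CommRing B] [Algebra A B] [Algebra B₁ B] [Algebra C B] [IsScalarTower C A B] [IsScalarTower C B₁ B]
  [Algebra.IsPushout C A B₁ B] [AddCommGroup N₁] [Module B₁ N₁] [Module C N₁] [IsScalarTower C B₁ N₁]
  [AddCommGroup N] [Module B N] [Module B₁ N] [IsScalarTower B₁ B N] [Module A N] [IsScalarTower A B N]

set_option maxHeartbeats 3200000 in
/-- Universal purity holds on the models over some finitely generated stage. -/
theorem exists_univPure_stage [Algebra.FinitePresentation C B₁] [Module.FinitePresentation B₁ N₁]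
    (l : N₁ →ₗ[B₁] N) (hl : IsBaseChange B l) (p : Ideal A) [p.IsPrime]
    (hflat₁ : ∀ (q : Ideal B₁) [q.IsPrime], q.LiesOver (p.comap (algebraMap C A)) → FlatCA.FlatAt C q N₁)
    (hflat : ∀ (q : Ideal B) [q.IsPrime], q.LiesOver p → FlatCA.FlatAt A q N)
    (hpure : FlatCA.IsPureAlong A B N p) :
    ∃ C₂ : Subalgebra C A, C₂.FG ∧ ∀ (B₂ N₂ : Type u) [CommRing B₂] [Algebra C₂ B₂] [Algebra B₁ B₂] [Algebra C B₂]
      [IsScalarTower C C₂ B₂] [IsScalarTower C B₁ B₂] [Algebra.IsPushout C C₂ B₁ B₂] [AddCommGroup N₂]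
      [Module B₂ N₂] [Module B₁ N₂] [IsScalarTower B₁ B₂ N₂] (l₂ : N₁ →ₗ[B₁] N₂), IsBaseChange B₂ l₂ →
      FlatCA.IsUnivPureAlong C₂ B₂ N₂ (p.comap (algebraMap C₂ A)) := by
  classical
  let pC : Ideal C := p.comap (algebraMap C A)
  haveI : pC.IsPrime := Ideal.IsPrime.comap _
  haveI : Algebra.IsPushout C B₁ A B := Algebra.IsPushout.symm inferInstance
  obtain ⟨R₁, S₁, _, _, _, _, _, _, _, _, p₁, _, hR, hS, hG, hlift⟩ :=
    FlatEtProj.exists_pgoodOn_fibre (R := C) N₁ pC hflat₁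
  obtain ⟨heR, hp₁, hκ⟩ := hR
  haveI := heR; haveI := hS; haveI := hp₁
  obtain ⟨T₁, NT₁, _, _, _, _, _, _, _, _, _, _, _, _, g, hpT', hpT, hg⟩ := exists_base_model C R₁ B₁ N₁
  haveI := hpT'; haveI := hpT
  let π : T₁ →ₐ[C] S₁ := Algebra.pushoutDesc T₁ (IsScalarTower.toAlgHom C R₁ S₁) (IsScalarTower.toAlgHom C B₁ S₁)
    fun _ _ => mul_comm _ _
  letI : Algebra T₁ S₁ := π.toRingHom.toAlgebra
  haveI : IsScalarTower R₁ T₁ S₁ := IsScalarTower.of_algebraMap_eq fun a => by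
    show _ = π (algebraMap R₁ T₁ a)
    rw [Algebra.pushoutDesc_left]
    rfl
  haveI : IsScalarTower B₁ T₁ S₁ := IsScalarTower.of_algebraMap_eq fun a => by
    show _ = π (algebraMap B₁ T₁ a)
    rw [Algebra.pushoutDesc_right]
    rfl
  haveI : Algebra.Etale B₁ T₁ := etale_of_isPushout (R := C) (S := B₁) (R' := R₁) (S' := T₁)
  haveI : Algebra.Etale T₁ S₁ := Algebra.Etale.of_restrictScalars B₁ T₁ S₁
  haveI : Algebra.FinitePresentation R₁ T₁ := Algebra.FinitePresentation.equiv (Algebra.IsPushout.equiv C R₁ B₁ T₁)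
  haveI : Module.FinitePresentation T₁ NT₁ := Module.FinitePresentation.of_equiv hg.equiv
  haveI : IsNoetherianRing R₁ := Algebra.FiniteType.isNoetherianRing C R₁
  let u₁ : NT₁ →ₗ[T₁] S₁ ⊗[T₁] NT₁ := TensorProduct.mk T₁ S₁ NT₁ 1
  have hu₁ : IsBaseChange S₁ u₁ := TensorProduct.isBaseChange T₁ NT₁ S₁
  haveI : IsScalarTower R₁ S₁ (S₁ ⊗[T₁] NT₁) := inferInstance
  haveI : IsScalarTower B₁ S₁ (S₁ ⊗[T₁] NT₁) := inferInstance
  haveI : IsScalarTower B₁ T₁ (S₁ ⊗[T₁] NT₁) := IsScalarTower.to₁₂₄ B₁ T₁ S₁ _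
  haveI : Module.Projective R₁ (S₁ ⊗[T₁] NT₁) := hG (S₁ ⊗[T₁] NT₁) ((u₁.restrictScalars B₁).comp g) (hg.comp hu₁)
  -- the covered locus of `T₁`
  have hop : IsOpen (Set.range (PrimeSpectrum.comap (algebraMap T₁ S₁))) := by
    rw [← Set.image_univ]
    exact PrimeSpectrum.isOpenMap_comap_of_hasGoingDown_of_finitePresentation _ isOpen_univ
  obtain ⟨s, hs⟩ := PrimeSpectrum.isCompact_isOpen_iff.1
    ⟨isCompact_range (PrimeSpectrum.continuous_comap (algebraMap T₁ S₁)), hop⟩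
  let c : {x // x ∈ s} → T₁ := fun i => i.1
  have hc : Set.range (PrimeSpectrum.comap (algebraMap T₁ S₁)) = (PrimeSpectrum.zeroLocus (Set.range c))ᶜ := by
    rw [← hs]
    congr 2
    exact Subtype.range_coe.symm
  obtain ⟨L, hL₁, hL₂⟩ := exists_strata (R₀ := R₁) (famSmul (NT := NT₁) c)
  -- the limit
  letI : Algebra R₁ (A ⊗[C] R₁) := Algebra.TensorProduct.rightAlgebra
  haveI : IsScalarTower C R₁ (A ⊗[C] R₁) := Algebra.TensorProduct.right_isScalarTower
  haveI hpA : Algebra.IsPushout C A R₁ (A ⊗[C] R₁) := TensorProduct.isPushout (R := C) (S := A) (T := R₁)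
  haveI : Algebra.IsPushout C R₁ A (A ⊗[C] R₁) := Algebra.IsPushout.symm hpA
  obtain ⟨p', hp', hp'p, -, hcovA⟩ := covered_at_limit (R' := A ⊗[C] R₁) (S₁ := S₁) l hl g hg p p₁ pC rfl hκ
    (fun Q _ hQ => by
      obtain ⟨Q', h1, h2, h3⟩ := hlift ⟨Q, inferInstance⟩ hQ hQ
      exact ⟨Q', h1, h2, h3⟩) hflat hpure
  haveI := hp'
  obtain ⟨C₂, hC₂, v, hv, hgood⟩ := exists_stage_good L p' fun x hx t ht htp hle => by
    by_contra hgt
    haveI := ht
    haveI : (t.comap (algebraMap R₁ (A ⊗[C] R₁))).IsPrime := Ideal.IsPrime.comap _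
    exact hL₁ x hx (t.comap (algebraMap R₁ (A ⊗[C] R₁))) hle hgt
      ((covered_iff_injective (C := S₁) c hc _).2 fun Q _ _ hQ => hcovA t htp Q hQ)
  refine ⟨C₂, hC₂, fun B₂ N₂ => ?_⟩
  intro _ _ _ _ _ _ _ _ _ _ _ l₂ hl₂
  letI : Algebra R₁ (C₂ ⊗[C] R₁) := Algebra.TensorProduct.rightAlgebra
  haveI : IsScalarTower C R₁ (C₂ ⊗[C] R₁) := Algebra.TensorProduct.right_isScalarTower
  haveI : Algebra.IsPushout C C₂ R₁ (C₂ ⊗[C] R₁) := TensorProduct.isPushout (R := C) (S := C₂) (T := R₁)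
  haveI : (p'.comap (limMap (R := R₁) C₂)).IsPrime := Ideal.IsPrime.comap _
  refine univPure_of_covered (C := C) (R₁ := R₁) (R₂ := C₂ ⊗[C] R₁) u₁ hu₁ l₂ hl₂ g hg _ (p'.comap (limMap (R := R₁) C₂)) ?_ v hv ?_
  · rw [← hp'p]
    ext a
    rfl
  · intro t _ hvt Q _ _ hQ
    haveI : (t.comap (algebraMap R₁ (C₂ ⊗[C] R₁))).IsPrime := Ideal.IsPrime.comap _
    refine (covered_iff_injective (C := S₁) c hc _).1 ?_ Q hQ
    by_contra hinj
    obtain ⟨x, hx, hle, hgt⟩ := hL₂ (t.comap (algebraMap R₁ (C₂ ⊗[C] R₁))) hinj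
    exact hgt (hgood x hx t inferInstance hvt hle)

end Groth.Agent.FlatStage
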